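import Cfsg.Agent.H724.KB.UBlock
import Cfsg.Agent.H734.KB.RowPSL

/-!
# S4822, task KB2: `PSU_n(q)` in cross characteristic (helper724)

`kb_psu : p ≤ k(B₀(PSU_n(q)))` if `p ≥ 11` does not divide `q` and the Sylow `p`-subgroups are not cyclic.
-/

set_option autoImplicit false
set_option linter.unusedSectionVars false

open Cfsg Module Subgroup Cfsg.Agent.LieClassical.HermBasic

namespace Cfsg.Agent.H724.KB

universe u

section center

variable {F : Type} [Field F] [Fintype F] {q n : ℕ}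

theorem center_pow (hF : Fintype.card F = q ^ 2) (hn : 3 ≤ n) {z : SU n F q} (hz : z ∈ center (SU n F q)) :
    z ^ (q + 1) = 1 := by
  obtain ⟨c, hcn, hcq, rfl⟩ := (LieClassical.SUBasic.mem_center_SU_iff hF hn z).1 hz
  apply Subtype.ext
  apply Subtype.ext
  change (((LieClassical.SUBasic.suScalar q c hcn hcq : SU n F q) : Matrix.SpecialLinearGroup (Fin n) F) :
    Matrix (Fin n) (Fin n) F) ^ (q + 1) = 1
  rw [LieClassical.SUBasic.coe_suScalar, Matrix.diagonal_pow, ← Matrix.diagonal_one]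
  congr 1
  funext j
  exact hcq

theorem not_dvd_center (hF : Fintype.card F = q ^ 2) (hn : 3 ≤ n) {p : ℕ} [Fact p.Prime] (hq : p.Coprime (q + 1)) :
    ¬ p ∣ Nat.card (center (SU n F q)) := by
  intro h
  have : Finite (center (SU n F q)) := inferInstance
  obtain ⟨z, hz⟩ := exists_prime_orderOf_dvd_card' p h
  have h1 : z ^ (q + 1) = 1 := Subtype.ext (center_pow hF hn z.2)
  have h2 := orderOf_dvd_of_pow_eq_one h1
  rw [hz] at h2
  have h3 : p ∣ 1 := by rw [← hq]; exact Nat.dvd_gcd dvd_rfl h2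
  exact (Fact.out : p.Prime).one_lt.ne' (Nat.dvd_one.1 h3)

end center

section block

variable {F : Type} [Field F] [Fintype F] {q n d p : ℕ} [Fact p.Prime] {M : Ideal AlgInt}

/-- `PSU_n(q)`, `n ≥ 2 d`, `d ≥ 2` -/
theorem psu_of_block (hM : IsPModular p M) (hF : Fintype.card F = q ^ 2) (hn3 : 3 ≤ n) (hd0 : 0 < d) (hn : 2 * d ≤ n)
    (hd : OrdM p q d) (hq : p.Coprime (q + 1)) : p ≤ Nat.card (principalBlock M (PSU n F q)) := by
  classical
  have : NeZero d := ⟨by omega⟩
  obtain ⟨K, _, _, _, hK⟩ := H477.HC.exists_L F d hd0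
  have := Fintype.ofFinite K
  obtain ⟨l, h, hl⟩ := exists_reg hF hK Fact.out hd
  have := h.finite
  have hdiv : 2 ≤ n / d := (Nat.le_div_iff_mul_le hd0).2 hn
  obtain ⟨s, hs⟩ : ∃ s, n / d = s + 1 := ⟨n / d - 1, by omega⟩
  have hr : n % d < d := Nat.mod_lt _ hd0
  have hnd : s * d + (d + n % d) = n := by
    have h1 := Nat.div_add_mod n d
    rw [hs] at h1
    rw [← add_assoc, ← Nat.succ_mul, Nat.mul_comm]
    exact h1
  obtain ⟨b, hb⟩ := exists_basis hF ((finrank_V h s (n % d)).trans hnd) (fV_symm h.hF s (n % d)) (fV_nd h s (n % d))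
  obtain ⟨e⟩ := exists_iso hF b hb
  have hcen : ¬ p ∣ Nat.card (center ↥(SUs (fV h.hF K d s (n % d)))) := by
    rw [Nat.card_congr (centerCongr e).toEquiv]
    exact not_dvd_center hF hn3 hq
  have h1 := su_block hM h hl hK hd hq (s := s) (r := n % d) (by omega) hr (center _) hcen
  rw [H590.RankSum.card_congr (H734.KB.quotCenter e)] at h1
  exact h1

/-- all `p`-subgroups of `SU_n(q)` are cyclic if `n < 2 d` -/
theorem su_cyclic (hF : Fintype.card F = q ^ 2) (hn3 : 3 ≤ n) (hd0 : 0 < d) (hn : n < 2 * d)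
    (hd : OrdM p q d) (hq : p.Coprime (q + 1)) (R : Subgroup (SU n F q)) (hR : IsPGroup p R) : IsCyclic R := by
  classical
  have hp : p.Prime := Fact.out
  have : NeZero d := ⟨by omega⟩
  have hdv : Nat.card (SU n F q) ∣ Nat.card (GU n F q) := by
    rw [LieClassical.GUOrder.card_GU_eq hF (by omega)]
    exact Dvd.intro_left _ rfl
  rcases Nat.lt_or_ge n d with h1 | h1
  · refine cyc_of_elem (a := 0) (x := 1) (by rw [orderOf_one, pow_zero]) ?_ R hR
    rw [zero_add, pow_one]
    exact fun h2 => not_dvd_GU' hF hp hd h1 (h2.trans hdv)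
  · obtain ⟨K, _, _, _, hK⟩ := H477.HC.exists_L F d hd0
    have := Fintype.ofFinite K
    obtain ⟨l, h, hl⟩ := exists_reg hF hK hp hd
    have := h.finite
    obtain ⟨a, ha1, ha2⟩ := exists_max (d := d) (two_le hF) hp
    obtain ⟨μ, hμo, hμ⟩ := exists_order h.hF hK ha1
    obtain ⟨b, hb⟩ := exists_basis (n := n) hF ((finrank_R h (n - d)).trans (by omega)) (fR_symm h.hF (n - d))
      (fR_nd h (n - d))
    obtain ⟨e⟩ := exists_iso hF b hb
    set T := torE (F := F) h.hF (torV q d μ) (isTor_torV hμ) with hT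
    have hTo : orderOf T = p ^ a := by rw [hT, orderOf_torE h.hF hμ, hμo]
    have hTk : ∀ k : ℕ, (dg T (1 : (Fin (n - d) → F) ≃ₗ[F] (Fin (n - d) → F))) ^ k = dg (T ^ k) 1 := fun k => by
      rw [dg_pow, one_pow]
    let x : ↥(SUs (fR h.hF K d (n - d))) := ⟨dg T 1, mem_SUs_of_pow hF (fR_symm h.hF (n - d)) (fR_nd h (n - d))
      (N := p ^ a) (Nat.Coprime.pow_left _ hq) (dg_iso (torE_iso h.hF _ _) (one_mem _)) (by
        rw [hTk, ← hTo, pow_orderOf_eq_one]; rfl)⟩
    have hx : orderOf x = p ^ a := by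
      rw [← hTo, orderOf_eq_orderOf_iff]
      intro k
      constructor
      · intro h1
        have h2 := congrArg Subtype.val h1
        change (dg T (1 : (Fin (n - d) → F) ≃ₗ[F] (Fin (n - d) → F))) ^ k = 1 at h2
        rw [hTk] at h2
        exact dg_injective_left h2
      · intro h1
        apply Subtype.ext
        change (dg T (1 : (Fin (n - d) → F) ≃ₗ[F] (Fin (n - d) → F))) ^ k = 1
        rw [hTk, h1]
        rfl
    refine cyc_of_elem (a := a) (x := e x) (by rw [← hx]; exact MulEquiv.orderOf_eq e x) ?_ R hR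
    exact fun h2 => not_dvd_GU hF hp hd ha2 hn (h2.trans hdv)

/-- the Sylow `p`-subgroups of `PSU_n(q)` are cyclic if `n < 2 d` -/
theorem psu_cyclic (hF : Fintype.card F = q ^ 2) (hn3 : 3 ≤ n) (hd0 : 0 < d) (hn : n < 2 * d)
    (hd : OrdM p q d) (hq : p.Coprime (q + 1)) : ∃ P : Sylow p (PSU n F q), IsCyclic (P : Subgroup (PSU n F q)) := by
  obtain ⟨P₁⟩ : Nonempty (Sylow p (SU n F q)) := inferInstance
  have hP₁ : IsCyclic (P₁ : Subgroup (SU n F q)) := su_cyclic hF hn3 hd0 hn hd hq _ P₁.2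
  refine ⟨P₁.mapSurjective (QuotientGroup.mk'_surjective (center (SU n F q))), ?_⟩
  rw [Sylow.coe_mapSurjective]
  exact isCyclic_of_surjective _ ((QuotientGroup.mk' (center (SU n F q))).subgroupMap_surjective
    (P₁ : Subgroup (SU n F q)))

end block

section diag

variable {F : Type} [Field F] [Fintype F] {q n p : ℕ} [Fact p.Prime] {M : Ideal AlgInt}

open Classical in
theorem psu_of_diag (hF : Fintype.card F = q ^ 2) (hn3 : 3 ≤ n) (hM : IsPModular p M) (D : Fin n → Fˣ)
    (h : ∏ j, D j = 1) (hDq : ∀ j, D j ^ (q + 1) = 1) (hDp : ∀ j, D j ^ p = 1)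
    (hne : ∃ j k, D j ≠ D k)
    (hD : ∀ (c : F) (i : ℕ), (∀ μ : F, (Finset.univ.filter fun j => (D j : F) = μ).card =
      (Finset.univ.filter fun j => (D j : F) ^ i * c = μ).card) → ∀ j, (D j : F) ^ i * c = D j) :
    p ≤ Nat.card (principalBlock M (PSU n F q)) := by
  have hcenter : ∀ w : SU n F q, w ∈ center _ →
      ∃ r : F, ((w : Matrix.SpecialLinearGroup (Fin n) F) : Matrix (Fin n) (Fin n) F) = Matrix.diagonal fun _ => r := by
    intro w hw
    obtain ⟨r, hr1, hr2, rfl⟩ := (LieClassical.SUBasic.mem_center_SU_iff hF hn3 w).1 hw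
    exact ⟨r, LieClassical.SUBasic.coe_suScalar q r hr1 hr2⟩
  let z : SU n F q := LieClassical.SUBasic.suDiag q (fun j => (D j : F))
    (by rw [← Units.coe_prod, h, Units.val_one])
    (fun j => by rw [← Units.val_pow_eq_pow_val, hDq, Units.val_one])
  have hz : ((z : Matrix.SpecialLinearGroup (Fin n) F) : Matrix (Fin n) (Fin n) F) = Matrix.diagonal fun j => (D j : F) :=
    LieClassical.SUBasic.coe_suDiag q _ _ _
  have hzi : ∀ i : ℕ, (((z ^ i : SU n F q) : Matrix.SpecialLinearGroup (Fin n) F) : Matrix (Fin n) (Fin n) F) =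
      Matrix.diagonal fun j => (D j : F) ^ i := by
    intro i
    rw [Subgroup.coe_pow, Matrix.SpecialLinearGroup.coe_pow, hz, Matrix.diagonal_pow]
    rfl
  refine H734.KB.of_unique hM (z := (QuotientGroup.mk z : PSU n F q)) ?_ fun i hi => ?_
  · refine orderOf_eq_prime ?_ fun h1 => ?_
    · rw [← QuotientGroup.mk_pow]
      have h2 : z ^ p = 1 := by
        apply Subtype.ext
        apply Subtype.ext
        rw [hzi p]
        change _ = (1 : Matrix (Fin n) (Fin n) F)
        rw [← Matrix.diagonal_one]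
        congr 1
        funext j
        rw [← Units.val_pow_eq_pow_val, hDp, Units.val_one]
      rw [h2, QuotientGroup.mk_one]
    · obtain ⟨r, hr⟩ := hcenter _ ((QuotientGroup.eq_one_iff _).1 h1)
      obtain ⟨j, k, hjk⟩ := hne
      rw [hz] at hr
      have h2 := Matrix.diagonal_injective hr
      exact hjk (Units.ext ((congrFun h2 j).trans (congrFun h2 k).symm))
  · obtain ⟨c, hc⟩ := isConj_iff.1 hi
    obtain ⟨c, rfl⟩ := QuotientGroup.mk_surjective c
    rw [← QuotientGroup.mk_pow, ← QuotientGroup.mk_inv, ← QuotientGroup.mk_mul, ← QuotientGroup.mk_mul] at hc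
    have hw := QuotientGroup.eq.1 hc.symm
    obtain ⟨r, hr⟩ := hcenter _ hw
    set w := (z ^ i)⁻¹ * (c * z * c⁻¹) with hwdef
    have h1 : c * z * c⁻¹ = z ^ i * w := by rw [hwdef, mul_inv_cancel_left]
    have h2 : (((c * z * c⁻¹ : SU n F q) : Matrix.SpecialLinearGroup (Fin n) F) : Matrix (Fin n) (Fin n) F) =
        Matrix.diagonal fun j => (D j : F) ^ i * r := by
      rw [h1, Subgroup.coe_mul, Matrix.SpecialLinearGroup.coe_mul, hzi, hr, Matrix.diagonal_mul_diagonal]
    let C : (Matrix (Fin n) (Fin n) F)ˣ :=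
      ⟨(c : Matrix.SpecialLinearGroup (Fin n) F), ((c⁻¹ : SU n F q) : Matrix.SpecialLinearGroup (Fin n) F), by
        rw [← Matrix.SpecialLinearGroup.coe_mul, ← Subgroup.coe_mul, mul_inv_cancel, Subgroup.coe_one,
          Matrix.SpecialLinearGroup.coe_one], by
        rw [← Matrix.SpecialLinearGroup.coe_mul, ← Subgroup.coe_mul, inv_mul_cancel, Subgroup.coe_one,
          Matrix.SpecialLinearGroup.coe_one]⟩
    have h3 := hD r i fun μ => H734.KB.count_eq (a := fun j => (D j : F)) (C := C) (by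
      rw [← h2, Subgroup.coe_mul, Subgroup.coe_mul, Matrix.SpecialLinearGroup.coe_mul, Matrix.SpecialLinearGroup.coe_mul,
        hz]
      rfl) μ
    have h4 : z ^ i * w = z := by
      apply Subtype.ext
      apply Subtype.ext
      have h5 : (((z ^ i * w : SU n F q) : Matrix.SpecialLinearGroup (Fin n) F) : Matrix (Fin n) (Fin n) F) =
          Matrix.diagonal fun j => (D j : F) ^ i * r := by
        rw [Subgroup.coe_mul, Matrix.SpecialLinearGroup.coe_mul, hzi, hr, Matrix.diagonal_mul_diagonal]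
      rw [h5, hz]
      congr 1
      funext j
      exact h3 j
    rw [← QuotientGroup.mk_pow]
    have h5 : (QuotientGroup.mk (z ^ i * w) : PSU n F q) = QuotientGroup.mk (z ^ i) := by
      rw [QuotientGroup.eq, mul_inv_rev, inv_mul_cancel_right]
      exact inv_mem hw
    rw [← h5, h4]

theorem pow_of_pow {x : Fˣ} (hq : p ∣ q + 1) (hx : x ^ p = 1) : x ^ (q + 1) = 1 := by
  obtain ⟨c, hc⟩ := hq
  rw [hc, pow_mul, hx, one_pow]

/-- `d = 1`, `p ∤ n` -/
theorem psu_diag_one (hF : Fintype.card F = q ^ 2) (hM : IsPModular p M) (hn : 3 ≤ n) (hpn : ¬ p ∣ n) (hq : p ∣ q + 1) :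
    p ≤ Nat.card (principalBlock M (PSU n F q)) := by
  classical
  have hp : p.Prime := Fact.out
  obtain ⟨x, hx⟩ := exists_prime_orderOf_dvd_card' (G := Fˣ) p (by
    rw [card_units_eq hF]; exact Dvd.dvd.mul_right hq _)
  have hxp : x ^ p = 1 := by rw [← hx, pow_orderOf_eq_one]
  let j₁ : Fin n := ⟨0, by omega⟩
  let j₂ : Fin n := ⟨1, by omega⟩
  have hj21 : j₂ ≠ j₁ := fun h => by simpa [j₁, j₂] using congrArg Fin.val h
  set b : Fˣ := (x ^ (n - 1))⁻¹ with hb
  have hxb : x ≠ b := by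
    intro h
    apply hpn
    rw [← hx]
    apply orderOf_dvd_of_pow_eq_one
    have h1 : x * x ^ (n - 1) = 1 := by
      nth_rewrite 1 [h]
      rw [hb, inv_mul_cancel]
    rw [← pow_succ', Nat.sub_add_cancel (by omega)] at h1
    exact h1
  let D : Fin n → Fˣ := fun j => if j = j₁ then b else x
  have hD1 : D j₁ = b := if_pos rfl
  have hD0 : ∀ j, j ≠ j₁ → D j = x := fun j hj => if_neg hj
  have hDp : ∀ j, D j ^ p = 1 := fun j => by
    by_cases hj : j = j₁
    · rw [hj, hD1, hb, inv_pow, ← pow_mul, mul_comm, pow_mul, hxp, one_pow, inv_one]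
    · rw [hD0 j hj, hxp]
  refine psu_of_diag hF hn hM D ?_ (fun j => pow_of_pow hq (hDp j)) hDp ⟨j₂, j₁, by rw [hD1, hD0 _ hj21]; exact hxb⟩
    fun c i hci => ?_
  · rw [← Finset.mul_prod_erase Finset.univ D (Finset.mem_univ j₁), hD1,
      Finset.prod_congr rfl (g := fun _ => x) (fun j hj => hD0 j (Finset.ne_of_mem_erase hj)), Finset.prod_const,
      Finset.card_erase_of_mem (Finset.mem_univ _), Finset.card_univ, Fintype.card_fin, hb, inv_mul_cancel]
  · have h1 : 2 ≤ (Finset.univ.filter fun j => (D j : F) ^ i * c = (x : F) ^ i * c).card := by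
      have h2 : (Finset.univ.erase j₁) ⊆ (Finset.univ.filter fun j => (D j : F) ^ i * c = (x : F) ^ i * c) := by
        intro j hj
        rw [Finset.mem_filter]
        exact ⟨Finset.mem_univ _, by rw [hD0 j (Finset.ne_of_mem_erase hj)]⟩
      have h3 := Finset.card_le_card h2
      rw [Finset.card_erase_of_mem (Finset.mem_univ _), Finset.card_univ, Fintype.card_fin] at h3
      omega
    rw [← hci] at h1
    have h2 : (x : F) ^ i * c = x := by
      obtain ⟨j, hj, hj1⟩ := Finset.exists_mem_ne (show 1 < _ from h1) j₁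
      have h3 := (Finset.mem_filter.1 hj).2
      rw [hD0 j hj1] at h3
      exact h3.symm
    have h3 : (b : F) ^ i * c = b := by
      have h4 : 0 < (Finset.univ.filter fun j => (D j : F) ^ i * c = (b : F)).card := by
        rw [← hci]
        exact Finset.card_pos.2 ⟨j₁, Finset.mem_filter.2 ⟨Finset.mem_univ _, by rw [hD1]⟩⟩
      obtain ⟨j, hj⟩ := Finset.card_pos.1 h4
      have h5 := (Finset.mem_filter.1 hj).2
      by_cases hj1 : j = j₁
      · rw [hj1, hD1] at h5; exact h5
      · rw [hD0 j hj1, h2] at h5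
        exact absurd (Units.ext h5) hxb
    intro j
    by_cases hj : j = j₁
    · rw [hj, hD1]; exact h3
    · rw [hD0 j hj]; exact h2

/-- `d = 1`, `n` large -/
theorem psu_diag_two (hF : Fintype.card F = q ^ 2) (hM : IsPModular p M) (hn : 7 ≤ n) (hq : p ∣ q + 1) :
    p ≤ Nat.card (principalBlock M (PSU n F q)) := by
  classical
  have hp : p.Prime := Fact.out
  obtain ⟨x, hx⟩ := exists_prime_orderOf_dvd_card' (G := Fˣ) p (by
    rw [card_units_eq hF]; exact Dvd.dvd.mul_right hq _)
  have hxp : x ^ p = 1 := by rw [← hx, pow_orderOf_eq_one]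
  let j₀ : Fin n := ⟨0, by omega⟩
  let j₁ : Fin n := ⟨1, by omega⟩
  let j₂ : Fin n := ⟨2, by omega⟩
  let j₃ : Fin n := ⟨3, by omega⟩
  have h10 : j₁ ≠ j₀ := fun h => by simpa [j₀, j₁] using congrArg Fin.val h
  have h20 : j₂ ≠ j₀ := fun h => by simpa [j₀, j₂] using congrArg Fin.val h
  have h21 : j₂ ≠ j₁ := fun h => by simpa [j₁, j₂] using congrArg Fin.val h
  have h30 : j₃ ≠ j₀ := fun h => by simpa [j₀, j₃] using congrArg Fin.val h
  have h31 : j₃ ≠ j₁ := fun h => by simpa [j₁, j₃] using congrArg Fin.val h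
  have h32 : j₃ ≠ j₂ := fun h => by simpa [j₂, j₃] using congrArg Fin.val h
  have hx1 : x ≠ 1 := by
    rintro rfl
    rw [orderOf_one] at hx
    exact hp.one_lt.ne hx
  set b : Fˣ := (x ^ 2)⁻¹ with hb
  let D : Fin n → Fˣ := fun j => if j = j₂ then b else if j = j₀ ∨ j = j₁ then x else 1
  have hD2 : D j₂ = b := if_pos rfl
  have hD0 : D j₀ = x := by
    change (if j₀ = j₂ then b else if j₀ = j₀ ∨ j₀ = j₁ then x else 1) = x
    rw [if_neg h20.symm, if_pos (Or.inl rfl)]
  have hD1 : D j₁ = x := by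
    change (if j₁ = j₂ then b else if j₁ = j₀ ∨ j₁ = j₁ then x else 1) = x
    rw [if_neg h21.symm, if_pos (Or.inr rfl)]
  have hDe : ∀ j, j ≠ j₀ → j ≠ j₁ → j ≠ j₂ → D j = 1 := by
    intro j a1 a2 a3
    change (if j = j₂ then b else if j = j₀ ∨ j = j₁ then x else 1) = 1
    rw [if_neg a3, if_neg (fun h => h.elim a1 a2)]
  have hcases : ∀ j, j = j₀ ∨ j = j₁ ∨ j = j₂ ∨ D j = 1 := by
    intro j
    by_cases a1 : j = j₀
    · exact Or.inl a1
    by_cases a2 : j = j₁
    · exact Or.inr (Or.inl a2)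
    by_cases a3 : j = j₂
    · exact Or.inr (Or.inr (Or.inl a3))
    exact Or.inr (Or.inr (Or.inr (hDe j a1 a2 a3)))
  have hDp : ∀ j, D j ^ p = 1 := fun j => by
    rcases hcases j with rfl | rfl | rfl | h
    · rw [hD0, hxp]
    · rw [hD1, hxp]
    · rw [hD2, hb, inv_pow, ← pow_mul, mul_comm, pow_mul, hxp, one_pow, inv_one]
    · rw [h, one_pow]
  refine psu_of_diag hF (by omega) hM D ?_ (fun j => pow_of_pow hq (hDp j)) hDp
    ⟨j₀, j₃, by rw [hD0, hDe _ h30 h31 h32]; exact hx1⟩ fun c i hci => ?_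
  · rw [← Finset.mul_prod_erase Finset.univ D (Finset.mem_univ j₂), hD2,
      ← Finset.mul_prod_erase (Finset.univ.erase j₂) D (Finset.mem_erase.2 ⟨h20.symm, Finset.mem_univ j₀⟩), hD0,
      ← Finset.mul_prod_erase ((Finset.univ.erase j₂).erase j₀) D
        (Finset.mem_erase.2 ⟨h10, Finset.mem_erase.2 ⟨h21.symm, Finset.mem_univ j₁⟩⟩), hD1,
      Finset.prod_eq_one (fun j hj => ?_), hb, mul_one, ← pow_two, inv_mul_cancel]
    rw [Finset.mem_erase, Finset.mem_erase, Finset.mem_erase] at hj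
    exact hDe j hj.2.1 hj.1 hj.2.2.1
  · -- `c = 1`
    have hc1 : c = 1 := by
      by_contra hc
      have h1 : (Finset.univ \ {j₀, j₁, j₂} : Finset (Fin n)) ⊆ Finset.univ.filter fun j => (D j : F) ^ i * c = c := by
        intro j hj
        simp only [Finset.mem_sdiff, Finset.mem_univ, true_and, Finset.mem_insert, Finset.mem_singleton, not_or] at hj
        rw [Finset.mem_filter]
        refine ⟨Finset.mem_univ _, ?_⟩
        rw [hDe j hj.1 hj.2.1 hj.2.2, Units.val_one, one_pow, one_mul]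
      have h2 := Finset.card_le_card h1
      rw [← hci] at h2
      have h3 : (Finset.univ.filter fun j => (D j : F) = c) ⊆ ({j₀, j₁, j₂} : Finset (Fin n)) := by
        intro j hj
        have h4 := (Finset.mem_filter.1 hj).2
        simp only [Finset.mem_insert, Finset.mem_singleton]
        rcases hcases j with h | h | h | h
        · exact Or.inl h
        · exact Or.inr (Or.inl h)
        · exact Or.inr (Or.inr h)
        · rw [h, Units.val_one] at h4
          exact absurd h4.symm hc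
      have h4 := Finset.card_le_card h3
      have h5 : ({j₀, j₁, j₂} : Finset (Fin n)).card ≤ 3 := Finset.card_le_three
      have h6 : (Finset.univ \ {j₀, j₁, j₂} : Finset (Fin n)).card = n - ({j₀, j₁, j₂} : Finset (Fin n)).card := by
        rw [Finset.card_sdiff_of_subset (Finset.subset_univ _), Finset.card_univ, Fintype.card_fin]
      omega
    subst hc1
    have hxi : (x : F) ^ i = x := by
      by_contra hne
      have h1 : ({j₀, j₁} : Finset (Fin n)) ⊆ Finset.univ.filter fun j => (D j : F) = x := by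
        intro j hj
        rw [Finset.mem_insert, Finset.mem_singleton] at hj
        rw [Finset.mem_filter]
        rcases hj with rfl | rfl
        · exact ⟨Finset.mem_univ _, by rw [hD0]⟩
        · exact ⟨Finset.mem_univ _, by rw [hD1]⟩
      have h2 := Finset.card_le_card h1
      rw [Finset.card_pair h10.symm, hci] at h2
      have h3 : (Finset.univ.filter fun j => (D j : F) ^ i * 1 = x) ⊆ ({j₂} : Finset (Fin n)) := by
        intro j hj
        have h4 := (Finset.mem_filter.1 hj).2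
        rw [mul_one] at h4
        rw [Finset.mem_singleton]
        rcases hcases j with rfl | rfl | h | h
        · rw [hD0] at h4; exact absurd h4 hne
        · rw [hD1] at h4; exact absurd h4 hne
        · exact h
        · rw [h, Units.val_one, one_pow] at h4
          exact absurd (Units.ext h4.symm) hx1
      have h4 := Finset.card_le_card h3
      rw [Finset.card_singleton] at h4
      omega
    intro j
    rw [mul_one]
    rcases hcases j with rfl | rfl | rfl | h
    · rw [hD0, hxi]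
    · rw [hD1, hxi]
    · rw [hD2, hb, Units.val_inv_eq_inv_val, Units.val_pow_eq_pow_val, inv_pow, ← pow_mul, mul_comm, pow_mul, hxi]
    · rw [h, Units.val_one, one_pow]

end diag

/-- the row `PSU` for all `p ≥ 7` -/
theorem kb_psu_seven {p : ℕ} [Fact p.Prime] {M : Ideal AlgInt} {S : Type u} [Group S] [Finite S] [IsSimpleGroup S]
    {r : ℕ} [Fact r.Prime] (hrp : r ≠ p) (h7 : 7 ≤ p) (hM : IsPModular p M) (h : IsPSUChar r S)
    (hP : ∀ P : Sylow p S, ¬ IsCyclic (P : Subgroup S)) : p ≤ H508.KB.kB M S := by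
  classical
  have hp : p.Prime := Fact.out
  have hr : r.Prime := Fact.out
  obtain ⟨F, _, _, hch, n, q, hF, hn3, -, ⟨e⟩⟩ := h
  obtain ⟨f, -, hf⟩ := FiniteField.card F r
  have hpq : ¬ p ∣ q := by
    intro h0
    have h1 : p ∣ q ^ 2 := Dvd.dvd.pow h0 two_ne_zero
    rw [← hF, hf] at h1
    exact hrp ((Nat.prime_dvd_prime_iff_eq hp hr).1 (hp.dvd_of_dvd_pow h1)).symm
  unfold H508.KB.kB
  rw [H590.RankSum.card_congr e]
  have hnc : ¬ ∃ P : Sylow p (PSU n F q), IsCyclic (P : Subgroup (PSU n F q)) := by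
    rintro ⟨P, hc⟩
    apply hP (P.mapSurjective (f := e.symm.toMonoidHom) e.symm.surjective)
    have h2 : ((P.mapSurjective (f := e.symm.toMonoidHom) e.symm.surjective : Sylow p S) : Subgroup S) =
        (P : Subgroup (PSU n F q)).map e.symm.toMonoidHom := rfl
    rw [h2]
    exact isCyclic_of_surjective _ (e.symm.toMonoidHom.subgroupMap_surjective (P : Subgroup (PSU n F q)))
  set d := orderOf (-(q : ZMod p)) with hd
  have hOrd : OrdM p q d := by
    intro m
    rw [hd, orderOf_dvd_iff_pow_eq_one, ← ZMod.intCast_zmod_eq_zero_iff_dvd, Int.cast_sub, Int.cast_pow, Int.cast_neg,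
      Int.cast_natCast, Int.cast_one, sub_eq_zero]
  have hd0 : 0 < d := by
    rw [hd, orderOf_pos_iff]
    have h0 : -(q : ZMod p) ≠ 0 := by
      rw [Ne, neg_eq_zero, ZMod.natCast_eq_zero_iff]; exact hpq
    exact isOfFinOrder_iff_pow_eq_one.2 ⟨p - 1, by omega, ZMod.pow_card_sub_one_eq_one h0⟩
  have hq1 : p ∣ q + 1 ↔ d = 1 := by
    rw [← Nat.dvd_one, ← hOrd 1, pow_one, ← Int.natCast_dvd_natCast, ← dvd_neg]
    have h1 : -(((q + 1 : ℕ) : ℤ)) = -(q : ℤ) - 1 := by push_cast; ring
    rw [h1]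
  by_cases hd1 : d = 1
  · have hq := hq1.2 hd1
    by_cases hpn : p ∣ n
    · exact psu_diag_two hF hM (by have := Nat.le_of_dvd (by omega) hpn; omega) hq
    · exact psu_diag_one hF hM hn3 hpn hq
  · have hq : p.Coprime (q + 1) := by
      rw [hp.coprime_iff_not_dvd]
      exact fun h1 => hd1 (hq1.1 h1)
    rcases Nat.lt_or_ge n (2 * d) with hlt | hge
    · exact absurd (psu_cyclic hF hn3 hd0 hlt hOrd hq) hnc
    · exact psu_of_block hM hF hn3 hd0 hge hOrd hq

/-- **S4822, KB2** -/
theorem kb_psu {p : ℕ} [Fact p.Prime] {M : Ideal AlgInt} {S : Type u} [Group S] [Finite S] [IsSimpleGroup S]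
    {r : ℕ} [Fact r.Prime] (hrp : r ≠ p) (h11 : 11 ≤ p) (hM : IsPModular p M) (h : IsPSUChar r S)
    (hP : ∀ P : Sylow p S, ¬ IsCyclic (P : Subgroup S)) : p ≤ H508.KB.kB M S :=
  kb_psu_seven hrp (le_trans (by norm_num) h11) hM h hP

end Cfsg.Agent.H724.KB
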