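import Cfsg.Agent.H724.KB.UGrp
import Cfsg.Agent.H734.KB.Exp

/-!
# `p ≤ k(B₀)` for the special unitary groups, `dim V ≥ 2 d`, `d ≥ 2` (S4822, `kb_psu`, helper724)
-/

set_option autoImplicit false
set_option linter.unusedSectionVars false

open Module Cfsg Subgroup Cfsg.Agent.LieClassical.HermBasic

namespace Cfsg.Agent.H724.KB

section dg

variable {F : Type} [Field F] {X Y : Type} [AddCommGroup X] [Module F X] [AddCommGroup Y] [Module F Y]

/-- block diagonal maps -/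
def dg (a : X ≃ₗ[F] X) (b : Y ≃ₗ[F] Y) : (X × Y) ≃ₗ[F] (X × Y) := a.prodCongr b

theorem dg_apply (a : X ≃ₗ[F] X) (b : Y ≃ₗ[F] Y) (v : X × Y) : dg a b v = (a v.1, b v.2) := rfl

theorem dg_mul (a a' : X ≃ₗ[F] X) (b b' : Y ≃ₗ[F] Y) : dg a b * dg a' b' = dg (a * a') (b * b') := rfl

theorem dg_one : dg (1 : X ≃ₗ[F] X) (1 : Y ≃ₗ[F] Y) = 1 := rfl

theorem dg_pow (a : X ≃ₗ[F] X) (b : Y ≃ₗ[F] Y) (k : ℕ) : dg a b ^ k = dg (a ^ k) (b ^ k) := by
  induction k with
  | zero => rfl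
  | succ k ih => rw [pow_succ, ih, dg_mul, ← pow_succ, ← pow_succ]

theorem dg_dg_pow {Z : Type} [AddCommGroup Z] [Module F Z] (b : Y ≃ₗ[F] Y) (k : ℕ) :
    (dg (1 : X ≃ₗ[F] X) (dg b (1 : Z ≃ₗ[F] Z))) ^ k = dg 1 (dg (b ^ k) 1) := by
  rw [dg_pow, dg_pow, one_pow, one_pow]

theorem dg_dg_eq {Z : Type} [AddCommGroup Z] [Module F Z] {a b c e : Y ≃ₗ[F] Y} (h : a * b = c * e) :
    dg (1 : X ≃ₗ[F] X) (dg a (1 : Z ≃ₗ[F] Z)) * dg 1 (dg b 1) = dg 1 (dg c 1) * dg 1 (dg e 1) := by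
  rw [dg_mul, dg_mul, dg_mul, dg_mul, h]

theorem dg_injective_left {a : X ≃ₗ[F] X} (h : dg a (1 : Y ≃ₗ[F] Y) = 1) : a = 1 := by
  refine LinearEquiv.ext fun v => ?_
  exact congrArg (fun f : (X × Y) ≃ₗ[F] (X × Y) => (f (v, 0)).1) h

theorem dg_injective_right {b : Y ≃ₗ[F] Y} (h : dg (1 : X ≃ₗ[F] X) b = 1) : b = 1 := by
  refine LinearEquiv.ext fun v => ?_
  exact congrArg (fun f : (X × Y) ≃ₗ[F] (X × Y) => (f (0, v)).2) h

theorem det_dg_left [FiniteDimensional F X] [FiniteDimensional F Y] (a : X ≃ₗ[F] X) :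
    LinearEquiv.det (dg a (1 : Y ≃ₗ[F] Y)) = LinearEquiv.det a := by
  apply Units.ext
  rw [LinearEquiv.coe_det, LinearEquiv.coe_det]
  have h : ((dg a (1 : Y ≃ₗ[F] Y) : (X × Y) ≃ₗ[F] (X × Y)) : (X × Y) →ₗ[F] (X × Y)) =
      LinearMap.prodMap (a : X →ₗ[F] X) (LinearMap.id : Y →ₗ[F] Y) := by ext v <;> rfl
  rw [h, LinearMap.det_prodMap, LinearMap.det_id, mul_one]

theorem det_dg_right [FiniteDimensional F X] [FiniteDimensional F Y] (b : Y ≃ₗ[F] Y) :
    LinearEquiv.det (dg (1 : X ≃ₗ[F] X) b) = LinearEquiv.det b := by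
  apply Units.ext
  rw [LinearEquiv.coe_det, LinearEquiv.coe_det]
  have h : ((dg (1 : X ≃ₗ[F] X) b : (X × Y) ≃ₗ[F] (X × Y)) : (X × Y) →ₗ[F] (X × Y)) =
      LinearMap.prodMap (LinearMap.id : X →ₗ[F] X) (b : Y →ₗ[F] Y) := by ext v <;> rfl
  rw [h, LinearMap.det_prodMap, LinearMap.det_id, one_mul]

variable {σ : F →+* F}

theorem dg_iso {S : X →ₛₗ[σ] X →ₗ[F] F} {S' : Y →ₛₗ[σ] Y →ₗ[F] F} {a : X ≃ₗ[F] X} {b : Y ≃ₗ[F] Y}
    (ha : a ∈ IsoG S) (hb : b ∈ IsoG S') : dg a b ∈ IsoG (formProd S S') := by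
  rw [mem_IsoG] at ha hb ⊢
  intro u v
  rw [formProd_apply, formProd_apply, dg_apply, dg_apply, ha, hb]

/-- the diagonal action on copies -/
def piE (s : ℕ) (a : X ≃ₗ[F] X) : (Fin s → X) ≃ₗ[F] (Fin s → X) := LinearEquiv.piCongrRight fun _ => a

theorem piE_apply {s : ℕ} (a : X ≃ₗ[F] X) (v : Fin s → X) (i : Fin s) : piE s a v i = a (v i) := rfl

theorem piE_pow {s : ℕ} (a : X ≃ₗ[F] X) (k : ℕ) : piE s a ^ k = piE s (a ^ k) := by
  induction k with
  | zero => rfl
  | succ k ih => rw [pow_succ, ih, pow_succ]; rfl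

theorem piE_iso {s : ℕ} {S : X →ₛₗ[σ] X →ₗ[F] F} {a : X ≃ₗ[F] X} (ha : a ∈ IsoG S) : piE s a ∈ IsoG (formPi s S) := by
  rw [mem_IsoG] at ha ⊢
  intro u v
  rw [formPi_apply, formPi_apply]
  exact Finset.sum_congr rfl fun i _ => ha _ _

end dg

section res

variable {F : Type} [Field F] {X Y : Type} [AddCommGroup X] [Module F X] [AddCommGroup Y] [Module F Y] {σ : F →+* F}
  {S : X →ₛₗ[σ] X →ₗ[F] F} {S' : Y →ₛₗ[σ] Y →ₗ[F] F}

theorem fix_of_comm {z : ↥(SUs (formProd S S'))} {a : X ≃ₗ[F] X} (hz : (z : (X × Y) ≃ₗ[F] (X × Y)) = dg a 1)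
    (ha : ∀ v, a v = v → v = 0) {g : ↥(SUs (formProd S S'))} (hg : g * z = z * g) (w : Y) :
    (g : (X × Y) ≃ₗ[F] (X × Y)) (0, w) = (0, ((g : (X × Y) ≃ₗ[F] (X × Y)) (0, w)).2) := by
  refine Prod.ext ?_ rfl
  apply ha
  have h1 := congrArg (fun f : ↥(SUs (formProd S S')) => ((f : (X × Y) ≃ₗ[F] (X × Y)) (0, w)).1) hg
  have h2 : ((g : (X × Y) ≃ₗ[F] (X × Y)) ((z : (X × Y) ≃ₗ[F] (X × Y)) (0, w))).1 =
      ((z : (X × Y) ≃ₗ[F] (X × Y)) ((g : (X × Y) ≃ₗ[F] (X × Y)) (0, w))).1 := h1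
  rw [hz, dg_apply, dg_apply, map_zero] at h2
  exact h2.symm

/-- the action of `C(z)` on the fixed space -/
noncomputable def resF {z : ↥(SUs (formProd S S'))} {a : X ≃ₗ[F] X} (hz : (z : (X × Y) ≃ₗ[F] (X × Y)) = dg a 1)
    (ha : ∀ v, a v = v → v = 0) : ↥(centralizer ({z} : Set ↥(SUs (formProd S S')))) →* ↥(IsoG S') where
  toFun g := ⟨
    { toFun := fun w => (((g : ↥(SUs (formProd S S'))) : (X × Y) ≃ₗ[F] (X × Y)) (0, w)).2
      invFun := fun w => ((((g⁻¹ : ↥(centralizer ({z} : Set ↥(SUs (formProd S S'))))) : ↥(SUs (formProd S S'))) :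
        (X × Y) ≃ₗ[F] (X × Y)) (0, w)).2
      map_add' := fun w w' => by
        rw [← Prod.snd_add, ← map_add, Prod.mk_add_mk, add_zero]
      map_smul' := fun c w => by
        rw [RingHom.id_apply, ← Prod.smul_snd, ← map_smul, Prod.smul_mk, smul_zero]
      left_inv := fun w => by
        have h1 := fix_of_comm hz ha (mem_centralizer_singleton_iff.1 g.2) w
        dsimp only
        rw [← h1]
        change ((((g : ↥(SUs (formProd S S'))) : (X × Y) ≃ₗ[F] (X × Y)).symm)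
          (((g : ↥(SUs (formProd S S'))) : (X × Y) ≃ₗ[F] (X × Y)) (0, w))).2 = w
        rw [LinearEquiv.symm_apply_apply]
      right_inv := fun w => by
        have h1 := fix_of_comm hz ha (mem_centralizer_singleton_iff.1 (g⁻¹).2) w
        dsimp only
        rw [← h1]
        change (((g : ↥(SUs (formProd S S'))) : (X × Y) ≃ₗ[F] (X × Y))
          ((((g : ↥(SUs (formProd S S'))) : (X × Y) ≃ₗ[F] (X × Y)).symm) (0, w))).2 = w
        rw [LinearEquiv.apply_symm_apply] }, fun w w' => by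
      have h1 := fix_of_comm hz ha (mem_centralizer_singleton_iff.1 g.2) w
      have h2 := fix_of_comm hz ha (mem_centralizer_singleton_iff.1 g.2) w'
      have h3 := (mem_SUs.1 (g : ↥(SUs (formProd S S'))).2).1 (0, w) (0, w')
      rw [h1, h2, formProd_apply, formProd_apply, map_zero, zero_add, zero_add] at h3
      exact h3⟩
  map_one' := Subtype.ext (LinearEquiv.ext fun w => rfl)
  map_mul' g h := Subtype.ext (LinearEquiv.ext fun w => by
    have h1 := fix_of_comm hz ha (mem_centralizer_singleton_iff.1 h.2) w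
    change (((g : ↥(SUs (formProd S S'))) : (X × Y) ≃ₗ[F] (X × Y))
      (((h : ↥(SUs (formProd S S'))) : (X × Y) ≃ₗ[F] (X × Y)) (0, w))).2 =
      (((g : ↥(SUs (formProd S S'))) : (X × Y) ≃ₗ[F] (X × Y))
      (0, (((h : ↥(SUs (formProd S S'))) : (X × Y) ≃ₗ[F] (X × Y)) (0, w)).2)).2
    rw [← h1])

theorem resF_apply {z : ↥(SUs (formProd S S'))} {a : X ≃ₗ[F] X} (hz : (z : (X × Y) ≃ₗ[F] (X × Y)) = dg a 1)
    (ha : ∀ v, a v = v → v = 0) (g : ↥(centralizer ({z} : Set ↥(SUs (formProd S S'))))) (w : Y) :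
    ((resF hz ha g : ↥(IsoG S')) : Y ≃ₗ[F] Y) w = (((g : ↥(SUs (formProd S S'))) : (X × Y) ≃ₗ[F] (X × Y)) (0, w)).2 := rfl

end res

section main

variable {F : Type} [Field F] [Fintype F] {q : ℕ} {K : Type} [Field K] [Algebra F K] {d : ℕ} [NeZero d]

/-- the form on the fixed space -/
noncomputable def fR (hF : Fintype.card F = q ^ 2) (K : Type) [Field K] [Algebra F K] (d : ℕ) [NeZero d] (r : ℕ) :
    (W F K d × (Fin r → F)) →ₛₗ[(conj hF).toRingHom] (W F K d × (Fin r → F)) →ₗ[F] F :=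
  formProd (fW hF K d) (formPi r (formOne (conj hF).toRingHom))

theorem fR_symm (hF : Fintype.card F = q ^ 2) (r : ℕ) : (fR hF K d r).IsSymm :=
  formProd_symm (fW_symm hF) (formPi_symm (formOne_symm (conj_conj' hF)))

variable {l : ZMod d → Kˣ}

theorem fR_nd (h : Reg F q l) (r : ℕ) : (fR h.hF K d r).SeparatingLeft :=
  formProd_nd h.nd (formPi_nd formOne_nd)

/-- the form on the whole space -/
noncomputable def fV (hF : Fintype.card F = q ^ 2) (K : Type) [Field K] [Algebra F K] (d : ℕ) [NeZero d] (s r : ℕ) :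
    ((Fin s → W F K d) × (W F K d × (Fin r → F))) →ₛₗ[(conj hF).toRingHom]
      ((Fin s → W F K d) × (W F K d × (Fin r → F))) →ₗ[F] F :=
  formProd (formPi s (fW hF K d)) (fR hF K d r)

theorem fV_symm (hF : Fintype.card F = q ^ 2) (s r : ℕ) : (fV hF K d s r).IsSymm :=
  formProd_symm (formPi_symm (fW_symm hF)) (fR_symm hF r)

theorem fV_nd (h : Reg F q l) (s r : ℕ) : (fV h.hF K d s r).SeparatingLeft :=
  formProd_nd (formPi_nd h.nd) (fR_nd h r)

theorem torE_iso (hF : Fintype.card F = q ^ 2) (m : ZMod d → Kˣ) (hm : IsTor q m) :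
    torE hF m hm ∈ IsoG (fW hF K d) := fW_torE hF m hm

theorem shE_iso (hF : Fintype.card F = q ^ 2) (s : ZMod d) : shE s ∈ IsoG (fW hF K d) := fW_shE hF s

theorem finite_W (h : Reg F q l) : Finite (W F K d) := by
  have := h.finite
  exact Module.finite_of_finite F

theorem finite_aut {X : Type} [AddCommGroup X] [Module F X] [Finite X] : Finite (X ≃ₗ[F] X) :=
  Finite.of_injective (fun g : X ≃ₗ[F] X => (g : X → X)) DFunLike.coe_injective

/-- elements of order `p` have determinant one -/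
theorem mem_SUs_of_pow (hF : Fintype.card F = q ^ 2) {V : Type} [AddCommGroup V] [Module F V] [FiniteDimensional F V]
    {S : V →ₛₗ[(conj hF).toRingHom] V →ₗ[F] F} (hS : S.IsSymm) (hnd : S.SeparatingLeft) {N : ℕ}
    (hN : N.Coprime (q + 1)) {g : V ≃ₗ[F] V} (hg : g ∈ IsoG S) (hp : g ^ N = 1) : g ∈ SUs S := by
  obtain ⟨b, hb⟩ := exists_basis hF rfl hS hnd
  refine mem_SUs.2 ⟨hg, ?_⟩
  have h1 := det_pow hF b hb hg
  have h2 : (LinearEquiv.det g) ^ N = 1 := by rw [← map_pow, hp, map_one]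
  have h3 := Nat.dvd_gcd (orderOf_dvd_of_pow_eq_one h2) (orderOf_dvd_of_pow_eq_one h1)
  rw [hN] at h3
  exact orderOf_eq_one_iff.1 (Nat.dvd_one.1 h3)

/-- the maximal order -/
theorem exists_max (hq : 2 ≤ q) {p : ℕ} (hp : p.Prime) :
    ∃ a : ℕ, ((p ^ a : ℕ) : ℤ) ∣ (-(q : ℤ)) ^ d - 1 ∧ ¬ ((p ^ (a + 1) : ℕ) : ℤ) ∣ (-(q : ℤ)) ^ d - 1 := by
  have h0 : ((-(q : ℤ)) ^ d - 1).natAbs ≠ 0 := by
    rw [Int.natAbs_ne_zero, sub_ne_zero]
    intro h
    have h1 := congrArg Int.natAbs h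
    rw [Int.natAbs_pow, Int.natAbs_neg, Int.natAbs_natCast, Int.natAbs_one] at h1
    have := Nat.one_lt_pow (NeZero.ne d) (show 1 < q by omega)
    omega
  refine ⟨((-(q : ℤ)) ^ d - 1).natAbs.factorization p, ?_, ?_⟩
  · rw [Int.natCast_dvd]; exact Nat.ordProj_dvd _ _
  · rw [Int.natCast_dvd]; exact Nat.pow_succ_factorization_not_dvd h0 hp

theorem finrank_V (h : Reg F q l) (s r : ℕ) : finrank F ((Fin s → W F K d) × (W F K d × (Fin r → F))) =
    s * d + (d + r) := by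
  have := h.finite
  rw [Module.finrank_prod, Module.finrank_prod, Module.finrank_fin_fun, Module.finrank_pi_fintype]
  simp only [h.finrank, Finset.sum_const, Finset.card_univ, Fintype.card_fin, smul_eq_mul]

theorem finrank_R (h : Reg F q l) (r : ℕ) : finrank F (W F K d × (Fin r → F)) = d + r := by
  have := h.finite
  rw [Module.finrank_prod, Module.finrank_fin_fun, h.finrank]

theorem orderOf_torE (hF : Fintype.card F = q ^ 2) {μ : Kˣ} (hμ : μ ^ ((-(q : ℤ)) ^ d) = μ) :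
    orderOf (torE (F := F) (d := d) hF (torV q d μ) (isTor_torV hμ)) = orderOf μ := by
  rw [orderOf_eq_orderOf_iff]
  intro k
  rw [torE_pow, torE_eq_one, torV_pow]
  constructor
  · intro h
    have h1 := congrFun h 0
    rwa [torV_zero, Pi.one_apply] at h1
  · intro h
    rw [h]
    funext j
    exact one_zpow _

variable [Fintype K] {p : ℕ} [Fact p.Prime]

/-- the `p`-subgroups of the isometry group of the fixed space are cyclic -/
theorem cyc_R (h : Reg F q l) (hK : finrank F K = d) (hd : OrdM p q d) {r : ℕ} (hr : r < d)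
    (R : Subgroup ↥(IsoG (fR h.hF K d r))) (hR : IsPGroup p R) : IsCyclic R := by
  have hp : p.Prime := Fact.out
  have := h.finite
  have := finite_W h
  have : Finite ((W F K d × (Fin r → F)) ≃ₗ[F] (W F K d × (Fin r → F))) := finite_aut
  obtain ⟨a, ha1, ha2⟩ := exists_max (d := d) (two_le h.hF) hp
  obtain ⟨μ, hμo, hμ⟩ := exists_order h.hF hK ha1
  let x : ↥(IsoG (fR h.hF K d r)) := ⟨dg (torE h.hF (torV q d μ) (isTor_torV hμ)) 1,
    dg_iso (torE_iso h.hF _ _) (one_mem _)⟩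
  refine cyc_of_elem (p := p) (a := a) (x := x) ?_ ?_ R hR
  · rw [← hμo, ← orderOf_torE (F := F) h.hF hμ, orderOf_eq_orderOf_iff]
    intro k
    constructor
    · intro h1
      have h2 := congrArg Subtype.val h1
      change (dg (torE h.hF (torV q d μ) (isTor_torV hμ)) 1) ^ k = 1 at h2
      rw [dg_pow, one_pow] at h2
      exact dg_injective_left h2
    · intro h1
      apply Subtype.ext
      change (dg (torE h.hF (torV q d μ) (isTor_torV hμ)) 1) ^ k = 1
      rw [dg_pow, one_pow, h1]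
      rfl
  · rw [card_IsoG h.hF (finrank_R h r) (fR_symm h.hF r) (fR_nd h r)]
    exact not_dvd_GU h.hF hp hd ha2 (by omega)

variable {M : Ideal AlgInt}

/-- **`SU`, `d ≥ 2`** -/
theorem su_block (hM : IsPModular p M) (h : Reg F q l) (hl : ∀ j, orderOf (l j) = p) (hK : finrank F K = d)
    (hd : OrdM p q d) (hq : p.Coprime (q + 1)) {s r : ℕ} (hs : 1 ≤ s) (hr : r < d)
    (N : Subgroup ↥(SUs (fV h.hF K d s r))) [N.Normal] (hN : ¬ p ∣ Nat.card N) :
    p ≤ Nat.card (principalBlock M (↥(SUs (fV h.hF K d s r)) ⧸ N)) := by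
  classical
  have hp : p.Prime := Fact.out
  have := h.finite
  have := finite_W h
  have : Finite (((Fin s → W F K d) × (W F K d × (Fin r → F))) ≃ₗ[F] ((Fin s → W F K d) × (W F K d × (Fin r → F)))) :=
    finite_aut
  let i₀ : Fin s := ⟨0, hs⟩
  set T := torE (F := F) h.hF l h.tor with hT
  have hTp : T ^ p = 1 := by
    rw [hT, torE_pow, torE_eq_one]
    funext j
    rw [Pi.pow_apply, ← hl j, pow_orderOf_eq_one]
    rfl
  have hl1 : ∀ j, (l j : K) ≠ 1 := by
    intro j h1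
    have h2 : l j = 1 := Units.ext h1
    have h3 := hl j
    rw [h2, orderOf_one] at h3
    exact hp.one_lt.ne h3
  have hTfix : ∀ v, T v = v → v = 0 := by
    intro v hv
    apply Subtype.ext
    funext j
    have h1 : (l j : K) * v.1 j = v.1 j := by
      have h2 := congrArg (fun w : W F K d => w.1 j) hv
      exact h2
    have h2 : ((l j : K) - 1) * v.1 j = 0 := by rw [sub_mul, h1, one_mul, sub_self]
    exact (mul_eq_zero.1 h2).resolve_left (sub_ne_zero.2 (hl1 j))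
  have hT1 : T ≠ 1 := by
    intro h1
    have h2 := hTfix one' (by rw [h1]; rfl)
    have h3 := congrArg (fun w : W F K d => w.1 0) h2
    exact one_ne_zero h3
  have hpfix : ∀ v : Fin s → W F K d, piE s T v = v → v = 0 := fun v hv =>
    funext fun i => hTfix _ (congrFun hv i)
  have hTi : T ∈ IsoG (fW h.hF K d) := torE_iso h.hF l h.tor
  let ze : ((Fin s → W F K d) × (W F K d × (Fin r → F))) ≃ₗ[F] ((Fin s → W F K d) × (W F K d × (Fin r → F))) :=
    dg (piE s T) 1
  let ue : ((Fin s → W F K d) × (W F K d × (Fin r → F))) ≃ₗ[F] ((Fin s → W F K d) × (W F K d × (Fin r → F))) :=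
    dg 1 (dg T 1)
  have hzk : ∀ k : ℕ, ze ^ k = dg (piE s (T ^ k)) 1 := fun k => by
    change (dg (piE s T) 1) ^ k = _
    rw [dg_pow, piE_pow, one_pow]
  have huk : ∀ k : ℕ, ue ^ k = dg 1 (dg (T ^ k) 1) := fun k => dg_dg_pow T k
  have hzp : ze ^ p = 1 := by rw [hzk, hTp]; rfl
  have hup : ue ^ p = 1 := by rw [huk, hTp]; rfl
  let z : ↥(SUs (fV h.hF K d s r)) := ⟨ze, mem_SUs_of_pow h.hF (fV_symm h.hF s r) (fV_nd h s r) hq
    (dg_iso (piE_iso hTi) (one_mem _)) hzp⟩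
  let u : ↥(SUs (fV h.hF K d s r)) := ⟨ue, mem_SUs_of_pow h.hF (fV_symm h.hF s r) (fV_nd h s r) hq
    (dg_iso (one_mem _) (dg_iso hTi (one_mem _))) hup⟩
  have hzu : u * z = z * u := Subtype.ext rfl
  have huC : u ∈ centralizer ({z} : Set ↥(SUs (fV h.hF K d s r))) := mem_centralizer_singleton_iff.2 hzu
  have hz1 : z ≠ 1 := by
    intro h1
    have h2 : dg (piE s T) (1 : (W F K d × (Fin r → F)) ≃ₗ[F] (W F K d × (Fin r → F))) = 1 := congrArg Subtype.val h1
    have h3 := dg_injective_left h2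
    apply hT1
    refine LinearEquiv.ext fun v => ?_
    exact congrArg (fun f : (Fin s → W F K d) ≃ₗ[F] (Fin s → W F K d) => f (fun _ => v) i₀) h3
  let f : ↥(centralizer ({z} : Set ↥(SUs (fV h.hF K d s r)))) →* ↥(IsoG (fR h.hF K d r)) :=
    resF (z := z) (a := piE s T) rfl hpfix
  refine H734.KB.crit_exp_quot hM N hN (z := z) (orderOf_eq_prime (Subtype.ext hzp) hz1) f
    (cyc_R h hK hd hr) ⟨⟨u, huC⟩, rfl⟩ (orderOf_eq_prime ?_ ?_) fun i hi => ?_
  · rw [← map_pow]
    have h1 : (⟨u, huC⟩ : ↥(centralizer ({z} : Set ↥(SUs (fV h.hF K d s r))))) ^ p = 1 :=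
      Subtype.ext (Subtype.ext hup)
    rw [h1, map_one]
  · intro h1
    apply hT1
    refine LinearEquiv.ext fun v => ?_
    have h2 := congrArg (fun g : ↥(IsoG (fR h.hF K d r)) =>
      ((g : (W F K d × (Fin r → F)) ≃ₗ[F] (W F K d × (Fin r → F))) (v, 0)).1) h1
    exact h2
  · obtain ⟨c, hc⟩ := isConj_iff.1 hi
    have h1 : c.1 * ze = ze ^ i * c.1 := by
      have h2 := congrArg Subtype.val (mul_inv_eq_iff_eq_mul.1 hc)
      exact h2
    -- the embedding of `W` in the first coordinate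
    let ι : W F K d →ₗ[F] ((Fin s → W F K d) × (W F K d × (Fin r → F))) :=
      (LinearMap.inl F (Fin s → W F K d) (W F K d × (Fin r → F))).comp (LinearMap.single F (fun _ => W F K d) i₀)
    have hι : ∀ v, ι (T v) = ze (ι v) := by
      intro v
      refine Prod.ext (funext fun k => ?_) rfl
      change (Pi.single i₀ (T v) : Fin s → W F K d) k = T ((Pi.single i₀ v : Fin s → W F K d) k)
      by_cases hk : k = i₀
      · subst hk; rw [Pi.single_eq_same, Pi.single_eq_same]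
      · rw [Pi.single_eq_of_ne hk, Pi.single_eq_of_ne hk, map_zero]
    have hTk : ∀ v (j : ZMod d), ((T ^ i) v).1 j = (l j : K) ^ i * v.1 j := by
      intro v j
      rw [hT, torE_pow, torE_apply, Pi.pow_apply, Units.val_pow_eq_pow_val]
    obtain ⟨k, j, j', hjj⟩ : ∃ (k : Fin s) (j j' : ZMod d), l j ^ i = l j' := by
      have hex : ∃ (v : W F K d) (k : Fin s) (j : ZMod d), ((c.1 (ι v)).1 k).1 j ≠ 0 := by
        by_contra hno
        push Not at hno
        apply hT1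
        refine LinearEquiv.ext fun v => ?_
        have h2 : (c.1 (ι v)).1 = 0 := funext fun k => Subtype.ext (funext fun j => hno v k j)
        have h3 : c.1 (ι (T v)) = c.1 (ι v) := by
          have h4 := congrArg (fun f : ((Fin s → W F K d) × (W F K d × (Fin r → F))) ≃ₗ[F]
            ((Fin s → W F K d) × (W F K d × (Fin r → F))) => f (ι v)) h1
          rw [hι]
          refine h4.trans ?_
          change (ze ^ i) (c.1 (ι v)) = _
          rw [hzk, dg_apply, h2, map_zero]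
          exact Prod.ext h2.symm rfl
        have h5 := congrArg (fun w : (Fin s → W F K d) × (W F K d × (Fin r → F)) => w.1 i₀)
          (c.1.injective h3)
        change (Pi.single i₀ (T v) : Fin s → W F K d) i₀ = (Pi.single i₀ v : Fin s → W F K d) i₀ at h5
        rw [Pi.single_eq_same, Pi.single_eq_same] at h5
        exact h5
      obtain ⟨v, k, j, hv⟩ := hex
      let ψ : W F K d →ₗ[F] K := (co j).comp ((LinearMap.proj k).comp ((LinearMap.fst F (Fin s → W F K d)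
        (W F K d × (Fin r → F))).comp (c.1.toLinearMap.comp ι)))
      have hψ : ∀ v, ψ v = ((c.1 (ι v)).1 k).1 j := fun _ => rfl
      obtain ⟨j', hj'⟩ := h.eigen (f := ψ) (fun h2 => hv (by rw [← hψ, h2]; rfl)) (c := (l j : K) ^ i) (fun w => by
        rw [hψ, hψ]
        have h4 := congrArg (fun f : ((Fin s → W F K d) × (W F K d × (Fin r → F))) ≃ₗ[F]
            ((Fin s → W F K d) × (W F K d × (Fin r → F))) => ((f (ι w)).1 k).1 j) h1
        change ((c.1 (ze (ι w))).1 k).1 j = ((((ze ^ i) (c.1 (ι w)))).1 k).1 j at h4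
        rw [← hι] at h4
        refine h4.trans ?_
        rw [hzk, dg_apply]
        exact hTk _ _)
      exact ⟨k, j, j', Units.ext (by rw [Units.val_pow_eq_pow_val]; exact hj')⟩
    have hsh : ∀ t, l (t + (j' - j)) = (l ^ i) t := by
      intro t
      have h2 := IsTor.propag (h.tor.pow i) h.tor (j := j) (k := j') (by rw [Pi.pow_apply]; exact hjj) (t - j)
      rw [add_sub_cancel] at h2
      rw [h2]
      congr 1
      ring
    have hshd : (LinearEquiv.det (shE (F := F) (K := K) (j' - j)))⁻¹ ^ (q + 1) = 1 := by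
      obtain ⟨b, hb⟩ := exists_basis h.hF h.finrank (fW_symm h.hF) h.nd
      rw [inv_pow, det_pow h.hF b hb (shE_iso h.hF _), inv_one]
    obtain ⟨m, hm, hdm⟩ := exists_det h hK hshd
    set te := torE (F := F) h.hF m hm * shE (j' - j) with hte
    have htT : te * T = T ^ i * te := by
      rw [hte, mul_assoc, shE_torE h.hF (j' - j) l (l ^ i) h.tor (h.tor.pow i) hsh, ← mul_assoc, torE_comm, mul_assoc,
        hT, torE_pow]
    have htd : LinearEquiv.det te = 1 := by rw [hte, map_mul, hdm, inv_mul_cancel]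
    have hti : te ∈ IsoG (fW h.hF K d) := mul_mem (torE_iso h.hF m hm) (shE_iso h.hF _)
    let t : ↥(SUs (fV h.hF K d s r)) := ⟨dg 1 (dg te 1), mem_SUs.2 ⟨dg_iso (one_mem _) (dg_iso hti (one_mem _)), by
      rw [det_dg_right, det_dg_left, htd]⟩⟩
    have htz : t * z = z * t := Subtype.ext rfl
    refine ⟨_, ⟨⟨t, mem_centralizer_singleton_iff.2 htz⟩, rfl⟩, ?_⟩
    rw [← map_inv, ← map_mul, ← map_mul, ← map_pow]
    congr 1
    apply Subtype.ext
    change t * u * t⁻¹ = u ^ i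
    rw [mul_inv_eq_iff_eq_mul]
    apply Subtype.ext
    change dg 1 (dg te 1) * ue = ue ^ i * dg 1 (dg te 1)
    rw [huk]
    exact dg_dg_eq htT

end main

end Cfsg.Agent.H724.KB
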