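import Cfsg.Agent.H724.KB.UTor
import Cfsg.Agent.H101.ROSU
import Cfsg.Agent.H185.SpThree
import Cfsg.Agent.S0277

/-!
# Isometry groups of hermitian forms (S4822, `kb_psu`, helper724)
-/

set_option autoImplicit false
set_option linter.unusedSectionVars false

open Module Cfsg Cfsg.Agent.LieClassical.HermBasic

namespace Cfsg.Agent.H724.KB

section grp

variable {F : Type} [Field F] {V : Type} [AddCommGroup V] [Module F V] {σ : F →+* F}

/-- the isometry group -/
def IsoG (S : V →ₛₗ[σ] V →ₗ[F] F) : Subgroup (V ≃ₗ[F] V) where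
  carrier := {g | ∀ u v, S (g u) (g v) = S u v}
  mul_mem' {g h} hg hh u v := by
    rw [LinearEquiv.mul_apply, LinearEquiv.mul_apply, hg, hh]
  one_mem' u v := rfl
  inv_mem' {g} hg u v := by
    have h1 : ∀ w, g (g⁻¹ w) = w := fun w => LinearEquiv.apply_symm_apply g w
    rw [← hg, h1, h1]

theorem mem_IsoG {S : V →ₛₗ[σ] V →ₗ[F] F} {g : V ≃ₗ[F] V} : g ∈ IsoG S ↔ ∀ u v, S (g u) (g v) = S u v := Iff.rfl

/-- the special isometry group -/
noncomputable def SUs (S : V →ₛₗ[σ] V →ₗ[F] F) : Subgroup (V ≃ₗ[F] V) := IsoG S ⊓ (LinearEquiv.det : (V ≃ₗ[F] V) →* Fˣ).ker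

theorem mem_SUs {S : V →ₛₗ[σ] V →ₗ[F] F} {g : V ≃ₗ[F] V} :
    g ∈ SUs S ↔ (∀ u v, S (g u) (g v) = S u v) ∧ LinearEquiv.det g = 1 := by
  rw [SUs, Subgroup.mem_inf, MonoidHom.mem_ker, mem_IsoG]

variable {V' : Type} [AddCommGroup V'] [Module F V']

/-- orthogonal sums -/
def formProd (S : V →ₛₗ[σ] V →ₗ[F] F) (S' : V' →ₛₗ[σ] V' →ₗ[F] F) : (V × V') →ₛₗ[σ] (V × V') →ₗ[F] F :=
  LinearMap.mk₂'ₛₗ _ _ (fun v w => S v.1 w.1 + S' v.2 w.2)
    (fun v v' w => by
      rw [Prod.fst_add, Prod.snd_add, map_add, map_add, LinearMap.add_apply, LinearMap.add_apply]; ring)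
    (fun c v w => by
      rw [Prod.smul_fst, Prod.smul_snd, LinearMap.map_smulₛₗ, LinearMap.map_smulₛₗ, LinearMap.smul_apply,
        LinearMap.smul_apply, smul_add])
    (fun v w w' => by
      rw [Prod.fst_add, Prod.snd_add, map_add, map_add]; ring)
    (fun c v w => by
      rw [Prod.smul_fst, Prod.smul_snd, map_smul, map_smul, RingHom.id_apply, smul_add])

theorem formProd_apply (S : V →ₛₗ[σ] V →ₗ[F] F) (S' : V' →ₛₗ[σ] V' →ₗ[F] F) (v w : V × V') :
    formProd S S' v w = S v.1 w.1 + S' v.2 w.2 := rfl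

theorem formProd_symm {S : V →ₛₗ[σ] V →ₗ[F] F} {S' : V' →ₛₗ[σ] V' →ₗ[F] F} (h : S.IsSymm) (h' : S'.IsSymm) :
    (formProd S S').IsSymm := ⟨fun v w => by
  rw [formProd_apply, formProd_apply, map_add, h.eq, h'.eq]⟩

theorem formProd_nd {S : V →ₛₗ[σ] V →ₗ[F] F} {S' : V' →ₛₗ[σ] V' →ₗ[F] F} (h : S.SeparatingLeft)
    (h' : S'.SeparatingLeft) : (formProd S S').SeparatingLeft := by
  intro v hv
  refine Prod.ext (h _ fun w => ?_) (h' _ fun w => ?_)
  · have h1 := hv (w, 0)
    rwa [formProd_apply, map_zero, add_zero] at h1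
  · have h1 := hv (0, w)
    rwa [formProd_apply, map_zero, zero_add] at h1

/-- orthogonal sums of copies -/
def formPi (s : ℕ) (S : V →ₛₗ[σ] V →ₗ[F] F) : (Fin s → V) →ₛₗ[σ] (Fin s → V) →ₗ[F] F :=
  LinearMap.mk₂'ₛₗ _ _ (fun v w => ∑ i, S (v i) (w i))
    (fun v v' w => by
      rw [← Finset.sum_add_distrib]
      exact Finset.sum_congr rfl fun i _ => by rw [Pi.add_apply, map_add, LinearMap.add_apply])
    (fun c v w => by
      rw [Finset.smul_sum]
      exact Finset.sum_congr rfl fun i _ => by rw [Pi.smul_apply, LinearMap.map_smulₛₗ, LinearMap.smul_apply])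
    (fun v w w' => by
      rw [← Finset.sum_add_distrib]
      exact Finset.sum_congr rfl fun i _ => by rw [Pi.add_apply, map_add])
    (fun c v w => by
      rw [Finset.smul_sum]
      exact Finset.sum_congr rfl fun i _ => by rw [Pi.smul_apply, map_smul, RingHom.id_apply])

theorem formPi_apply {s : ℕ} (S : V →ₛₗ[σ] V →ₗ[F] F) (v w : Fin s → V) : formPi s S v w = ∑ i, S (v i) (w i) := rfl

theorem formPi_symm {s : ℕ} {S : V →ₛₗ[σ] V →ₗ[F] F} (h : S.IsSymm) : (formPi s S).IsSymm := ⟨fun v w => by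
  rw [formPi_apply, formPi_apply, map_sum]
  exact Finset.sum_congr rfl fun i _ => h.eq _ _⟩

theorem formPi_nd {s : ℕ} {S : V →ₛₗ[σ] V →ₗ[F] F} (h : S.SeparatingLeft) : (formPi s S).SeparatingLeft := by
  classical
  intro v hv
  funext i
  refine h _ fun w => ?_
  have h1 := hv (Pi.single i w)
  rw [formPi_apply, Finset.sum_eq_single i] at h1
  · rwa [Pi.single_eq_same] at h1
  · intro j _ hj
    rw [Pi.single_eq_of_ne hj, map_zero]
  · intro h2
    exact absurd (Finset.mem_univ _) h2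

variable (σ) in
/-- the form of rank one -/
def formOne : F →ₛₗ[σ] F →ₗ[F] F :=
  LinearMap.mk₂'ₛₗ _ _ (fun v w => σ v * w)
    (fun v v' w => by rw [map_add, add_mul])
    (fun c v w => by rw [smul_eq_mul, map_mul, smul_eq_mul, mul_assoc])
    (fun v w w' => by rw [mul_add])
    (fun c v w => by rw [smul_eq_mul, RingHom.id_apply, smul_eq_mul, mul_left_comm])

theorem formOne_apply (v w : F) : formOne σ v w = σ v * w := rfl

theorem formOne_symm (h : ∀ c, σ (σ c) = c) : (formOne σ).IsSymm := ⟨fun v w => by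
  rw [formOne_apply, formOne_apply, map_mul, h, mul_comm]⟩

theorem formOne_nd : (formOne σ).SeparatingLeft := by
  intro v hv
  have h1 := hv 1
  rw [formOne_apply, mul_one, map_eq_zero] at h1
  exact h1

end grp

section iso

variable {F : Type} [Field F] [Fintype F] {q : ℕ} (hF : Fintype.card F = q ^ 2)
  {V : Type} [AddCommGroup V] [Module F V] {n : ℕ}

theorem conj_conj' (c : F) : (conj hF).toRingHom ((conj hF).toRingHom c) = c := pow_q_pow_q hF c

variable {S : V →ₛₗ[(conj hF).toRingHom] V →ₗ[F] F}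

theorem exists_basis [FiniteDimensional F V] (hV : finrank F V = n) (hS : S.IsSymm) (hnd : S.SeparatingLeft) :
    ∃ b : Basis (Fin n) F V, ∀ i j, S (b i) (b j) = if i = j then 1 else 0 := by
  obtain ⟨b, hb⟩ := Cfsg.Agent.ClassicalGeometry.HermOrthonormal.exists_orthonormal_basis (H101.RO.conj_ne_id hF)
    (conj_conj' hF) S hS hnd
  subst hV
  exact ⟨b, hb⟩

theorem card_IsoG [FiniteDimensional F V] (hV : finrank F V = n) (hS : S.IsSymm) (hnd : S.SeparatingLeft) :
    Nat.card (IsoG S) = Nat.card (GU n F q) := by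
  obtain ⟨b, hb⟩ := exists_basis hF hV hS hnd
  exact H185.SpThree.card_isom S b hb fun k => rfl

theorem toLin_apply (b : Basis (Fin n) F V) (A : Matrix.SpecialLinearGroup (Fin n) F) (v : V) :
    (Matrix.SpecialLinearGroup.toLin_equiv b A).1 v =
      b.equivFun.symm (Matrix.mulVec (A : Matrix (Fin n) (Fin n) F) (b.equivFun v)) := rfl

/-- the special unitary group -/
theorem exists_iso (b : Basis (Fin n) F V) (hb : ∀ i j, S (b i) (b j) = if i = j then 1 else 0) :
    Nonempty (SUs S ≃* SU n F q) := by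
  have key : ∀ A : Matrix.SpecialLinearGroup (Fin n) F, A ∈ SU n F q ↔
      (Matrix.SpecialLinearGroup.toLin_equiv b A).1 ∈ SUs S := by
    intro A
    rw [mem_SU_iff, mem_SUs]
    constructor
    · intro h
      refine ⟨fun u v => ?_, (Matrix.SpecialLinearGroup.toLin_equiv b A).2⟩
      rw [toLin_apply, toLin_apply, ← H101.RO.herm_eq hF S b hb, h, H101.RO.herm_eq hF S b hb,
        LinearEquiv.symm_apply_apply, LinearEquiv.symm_apply_apply]
    · intro h u v
      rw [H101.RO.herm_eq hF S b hb, H101.RO.herm_eq hF S b hb]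
      have h2 := h.1 (b.equivFun.symm v) (b.equivFun.symm u)
      rw [toLin_apply, toLin_apply, LinearEquiv.apply_symm_apply, LinearEquiv.apply_symm_apply] at h2
      exact h2
  let f : SU n F q →* SUs S :=
    { toFun := fun A => ⟨(Matrix.SpecialLinearGroup.toLin_equiv b A.1).1, (key A.1).1 A.2⟩
      map_one' := by
        apply Subtype.ext
        change (Matrix.SpecialLinearGroup.toLin_equiv b 1).1 = 1
        rw [map_one]; rfl
      map_mul' := fun A B => by
        apply Subtype.ext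
        change (Matrix.SpecialLinearGroup.toLin_equiv b (A.1 * B.1)).1 = _
        rw [map_mul]; rfl }
  refine ⟨(MulEquiv.ofBijective f ⟨fun A B h => ?_, fun g => ?_⟩).symm⟩
  · have h1 := congrArg Subtype.val h
    exact Subtype.ext ((Matrix.SpecialLinearGroup.toLin_equiv b).injective (Subtype.ext h1))
  · have h1 := (mem_SUs.1 g.2).2
    let A := (Matrix.SpecialLinearGroup.toLin_equiv b).symm ⟨g.1, h1⟩
    have hA : (Matrix.SpecialLinearGroup.toLin_equiv b A).1 = g.1 := by
      change (Matrix.SpecialLinearGroup.toLin_equiv b ((Matrix.SpecialLinearGroup.toLin_equiv b).symm ⟨g.1, h1⟩)).1 = g.1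
      rw [MulEquiv.apply_symm_apply]
    exact ⟨⟨A, (key A).2 (by rw [hA]; exact g.2)⟩, Subtype.ext hA⟩

/-- determinants have norm one -/
theorem det_pow (b : Basis (Fin n) F V) (hb : ∀ i j, S (b i) (b j) = if i = j then 1 else 0)
    {g : V ≃ₗ[F] V} (hg : g ∈ IsoG S) : LinearEquiv.det g ^ (q + 1) = 1 := by
  have h1 := Cfsg.Agent.LieClassical.GUOrder.det_mul_frob_det hF (LinearMap.toMatrix b b (g : V →ₗ[F] V)) fun u v => by
    have h2 : ∀ u : Fin n → F, b.equivFun.symm (Matrix.mulVec (LinearMap.toMatrix b b (g : V →ₗ[F] V)) u) =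
        g (b.equivFun.symm u) := by
      intro u
      have h3 := LinearMap.toMatrix_mulVec_repr b b (g : V →ₗ[F] V) (b.equivFun.symm u)
      have h4 : (b.repr (b.equivFun.symm u) : Fin n → F) = u := by
        change b.equivFun (b.equivFun.symm u) = u
        rw [LinearEquiv.apply_symm_apply]
      rw [h4] at h3
      rw [h3]
      change b.equivFun.symm (b.equivFun (g (b.equivFun.symm u))) = _
      rw [LinearEquiv.symm_apply_apply]
    rw [H101.RO.herm_eq hF S b hb, H101.RO.herm_eq hF S b hb, h2, h2]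
    exact hg _ _
  rw [LinearMap.det_toMatrix] at h1
  apply Units.ext
  rw [Units.val_pow_eq_pow_val, LinearEquiv.coe_det, h1, Units.val_one]

end iso

section order

variable {F : Type} [Field F] [Fintype F] {q : ℕ}

theorem card_GU_abs (hF : Fintype.card F = q ^ 2) (n : ℕ) : Nat.card (GU n F q) =
    q ^ (n * (n - 1) / 2) * ∏ i ∈ Finset.range n, ((-(q : ℤ)) ^ (i + 1) - 1).natAbs := by
  rw [S0277.result hF]
  congr 1
  refine Finset.prod_congr rfl fun i _ => ?_
  have hq := q_pos hF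
  have h1 : 1 ≤ q ^ (i + 1) := Nat.one_le_pow _ _ hq
  split_ifs with h
  · have h2 : (-(q : ℤ)) ^ (i + 1) - 1 = -((q ^ (i + 1) + 1 : ℕ) : ℤ) := by
      rw [Odd.neg_pow h.add_one]; push_cast; ring
    rw [h2, Int.natAbs_neg, Int.natAbs_natCast]
  · have h2 : (-(q : ℤ)) ^ (i + 1) - 1 = ((q ^ (i + 1) - 1 : ℕ) : ℤ) := by
      rw [Even.neg_pow (Nat.not_even_iff_odd.1 h).add_one, Nat.cast_sub h1]; push_cast; ring
    rw [h2, Int.natAbs_natCast]

variable {p d : ℕ} [NeZero d]

theorem coprime_prod (hp : p.Prime) (hd : OrdM p q d) (s : Finset ℕ) (hs : ∀ i ∈ s, ¬ d ∣ i + 1) (e : ℕ) :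
    Nat.Coprime p (q ^ e * ∏ i ∈ s, ((-(q : ℤ)) ^ (i + 1) - 1).natAbs) := by
  refine Nat.Coprime.mul_right (Nat.Coprime.pow_right _ ?_) (Nat.Coprime.prod_right fun i hi => ?_)
  · rw [hp.coprime_iff_not_dvd, ← Int.natCast_dvd_natCast]
    exact hd.not_dvd hp
  · rw [hp.coprime_iff_not_dvd, ← Int.natCast_dvd, hd]
    exact hs i hi

theorem not_dvd_GU' (hF : Fintype.card F = q ^ 2) (hp : p.Prime) (hd : OrdM p q d) {n : ℕ} (hn : n < d) :
    ¬ p ∣ Nat.card (GU n F q) := by
  rw [card_GU_abs hF, ← hp.coprime_iff_not_dvd]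
  refine coprime_prod hp hd _ (fun i hi h1 => ?_) _
  have := Nat.le_of_dvd (by omega) h1
  have := Finset.mem_range.1 hi
  omega

theorem not_dvd_GU (hF : Fintype.card F = q ^ 2) (hp : p.Prime) (hd : OrdM p q d) {a n : ℕ}
    (ha : ¬ ((p ^ (a + 1) : ℕ) : ℤ) ∣ (-(q : ℤ)) ^ d - 1) (hn : n < 2 * d) :
    ¬ p ^ (a + 1) ∣ Nat.card (GU n F q) := by
  classical
  rcases Nat.lt_or_ge n d with h | h
  · exact fun h1 => not_dvd_GU' hF hp hd h (dvd_trans (dvd_pow_self p (by omega)) h1)
  · have hd0 : d ≠ 0 := NeZero.ne d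
    rw [card_GU_abs hF, ← Finset.mul_prod_erase (Finset.range n) _ (Finset.mem_range.2 (show d - 1 < n by omega)),
      mul_left_comm, Nat.sub_add_cancel (by omega)]
    intro h1
    apply ha
    rw [Int.natCast_dvd]
    refine Nat.Coprime.dvd_of_dvd_mul_right (Nat.Coprime.pow_left _ (coprime_prod hp hd _ (fun i hi h2 => ?_) _)) h1
    rw [Finset.mem_erase, Finset.mem_range] at hi
    obtain ⟨c, hc⟩ := h2
    have h3 : c < 2 := by
      by_contra h4
      have : d * 2 ≤ d * c := Nat.mul_le_mul_left _ (by omega)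
      omega
    have h4 : c ≠ 0 := by rintro rfl; omega
    have h5 : c = 1 := by omega
    subst h5
    omega

end order

section cyc

/-- an element of maximal order -/
theorem cyc_of_elem {G : Type} [Group G] [Finite G] {p a : ℕ} [Fact p.Prime] {x : G} (hx : orderOf x = p ^ a)
    (h : ¬ p ^ (a + 1) ∣ Nat.card G) (R : Subgroup G) (hR : IsPGroup p R) : IsCyclic R := by
  have hp : p.Prime := Fact.out
  have h1 : IsPGroup p (Subgroup.zpowers x) := IsPGroup.of_card (n := a) (by rw [Nat.card_zpowers, hx])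
  obtain ⟨P, hP⟩ := h1.exists_le_sylow
  obtain ⟨b, hb⟩ := IsPGroup.iff_card.1 P.2
  have h2 : Nat.card (P : Subgroup G) ∣ Nat.card G := Subgroup.card_subgroup_dvd_card _
  have h3 : b < a + 1 := by
    by_contra h4
    apply h
    rw [hb] at h2
    exact dvd_trans (pow_dvd_pow p (by omega)) h2
  have h4 : Subgroup.zpowers x = P := by
    refine Subgroup.eq_of_le_of_card_ge hP ?_
    rw [hb, Nat.card_zpowers, hx]
    exact Nat.pow_le_pow_right hp.pos (by omega)
  have h5 : IsCyclic (P : Subgroup G) := by rw [← h4]; infer_instance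
  obtain ⟨P', hP'⟩ := hR.exists_le_sylow
  have h6 : IsCyclic (P' : Subgroup G) := isCyclic_of_surjective (Sylow.equiv P P').toMonoidHom (Sylow.equiv P P').surjective
  exact isCyclic_of_injective (Subgroup.inclusion hP') (Subgroup.inclusion_injective hP')

end cyc

end Cfsg.Agent.H724.KB
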