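import Mathlib
import Cfsg.Agent.LieClassical.HermBasic

/-!
# A model of the unitary block (S4822, `kb_psu`, helper724)

`|F| = q²`, `K ⊇ F`, `d ≥ 1`: the `F`-space `W = {v : ℤ/d → K | v_j ^ q² = v_{j+2}}` with the hermitian form
`h(v, w) = ∑ v_j ^ q · w_{j+1}`. It is `F ⊗ F_{q^d}`. The vectors `m : ℤ/d → Kˣ` with `m_{j+1} = m_j ^ (-q)` act as isometries,
the shifts `v ↦ (v_{j+s})_j` too.
-/

set_option autoImplicit false
set_option linter.unusedSectionVars false

open Module Cfsg.Agent.LieClassical.HermBasic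

namespace Cfsg.Agent.H724.KB

variable {F : Type} [Field F] [Fintype F] {q : ℕ}

section Frob

variable {K : Type} [Field K] [Algebra F K]

/-- `x ↦ x ^ q` on `K` -/
def kap (hF : Fintype.card F = q ^ 2) (K : Type) [Field K] [Algebra F K] : K →+* K where
  toFun x := x ^ q
  map_one' := one_pow q
  map_mul' x y := mul_pow x y q
  map_zero' := zero_pow (q_pos hF).ne'
  map_add' x y := by
    obtain ⟨r, k, hr, hchar, hk, -⟩ := exists_prime_pow hF
    have := Fact.mk hr
    have : CharP K r := (Algebra.charP_iff F K r).1 hchar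
    rw [hk]
    exact add_pow_char_pow x y r k

theorem kap_apply (hF : Fintype.card F = q ^ 2) (x : K) : kap hF K x = x ^ q := rfl

theorem kap_kap (hF : Fintype.card F = q ^ 2) (x : K) : kap hF K (kap hF K x) = FiniteField.frobeniusAlgHom F K x := by
  rw [FiniteField.frobeniusAlgHom_apply, hF, kap_apply, kap_apply, ← pow_mul, sq]

theorem kap_algebraMap (hF : Fintype.card F = q ^ 2) (c : F) :
    kap hF K (algebraMap F K c) = algebraMap F K (conj hF c) := by
  rw [kap_apply, conj_apply, map_pow]

/-- the fixed points of the Frobenius -/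
theorem exists_of_frob {x : K} (hx : FiniteField.frobeniusAlgHom F K x = x) : ∃ c : F, algebraMap F K c = x := by
  classical
  have h1 := FiniteField.X_pow_card_sub_X_ne_zero K (Fintype.one_lt_card (α := F))
  have h2 : (Finset.univ.image (algebraMap F K)) ⊆
      (Polynomial.X ^ Fintype.card F - Polynomial.X : Polynomial K).roots.toFinset := by
    intro y hy
    obtain ⟨c, -, rfl⟩ := Finset.mem_image.1 hy
    rw [Multiset.mem_toFinset, Polynomial.mem_roots h1, Polynomial.IsRoot.def, Polynomial.eval_sub, Polynomial.eval_pow,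
      Polynomial.eval_X, ← map_pow, FiniteField.pow_card, sub_self]
  have h3 : (Polynomial.X ^ Fintype.card F - Polynomial.X : Polynomial K).roots.toFinset.card ≤
      (Finset.univ.image (algebraMap F K)).card := by
    rw [Finset.card_image_of_injective _ (algebraMap F K).injective, Finset.card_univ]
    refine (Multiset.toFinset_card_le _).trans ((Polynomial.card_roots' _).trans ?_)
    rw [FiniteField.X_pow_card_sub_X_natDegree_eq K Fintype.one_lt_card]
  have h4 := Finset.eq_of_subset_of_card_le h2 h3
  have h5 : x ∈ (Polynomial.X ^ Fintype.card F - Polynomial.X : Polynomial K).roots.toFinset := by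
    rw [Multiset.mem_toFinset, Polynomial.mem_roots h1, Polynomial.IsRoot.def, Polynomial.eval_sub, Polynomial.eval_pow,
      Polynomial.eval_X, ← FiniteField.frobeniusAlgHom_apply, hx, sub_self]
  rw [← h4] at h5
  obtain ⟨c, -, hc⟩ := Finset.mem_image.1 h5
  exact ⟨c, hc⟩

variable (F K)

/-- a left inverse of the inclusion -/
noncomputable def pr : K →ₗ[F] F :=
  (LinearMap.exists_leftInverse_of_injective (Algebra.linearMap F K)
    (LinearMap.ker_eq_bot.2 (algebraMap F K).injective)).choose

variable {F K}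

theorem pr_algebraMap (c : F) : pr F K (algebraMap F K c) = c :=
  LinearMap.congr_fun (LinearMap.exists_leftInverse_of_injective (Algebra.linearMap F K)
    (LinearMap.ker_eq_bot.2 (algebraMap F K).injective)).choose_spec c

end Frob

section Mod

variable (F) (K : Type) [Field K] [Algebra F K] (d : ℕ)

/-- the model -/
def W : Submodule F (ZMod d → K) where
  carrier := {v | ∀ j, FiniteField.frobeniusAlgHom F K (v j) = v (j + 2)}
  add_mem' {v w} hv hw j := by
    rw [Pi.add_apply, Pi.add_apply, map_add, hv, hw]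
  zero_mem' j := by
    rw [Pi.zero_apply, Pi.zero_apply, map_zero]
  smul_mem' c v hv j := by
    rw [Pi.smul_apply, Pi.smul_apply, map_smul, hv]

variable {F K d}

theorem mem_W {v : ZMod d → K} : v ∈ W F K d ↔ ∀ j, FiniteField.frobeniusAlgHom F K (v j) = v (j + 2) := Iff.rfl

theorem W_frob (v : W F K d) (j : ZMod d) : FiniteField.frobeniusAlgHom F K (v.1 j) = v.1 (j + 2) := v.2 j

/-- the constant vector -/
def one' : W F K d := ⟨fun _ => 1, fun _ => map_one _⟩

theorem one'_apply (j : ZMod d) : (one' : W F K d).1 j = 1 := rfl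

/-- the coordinates -/
def co (j : ZMod d) : W F K d →ₗ[F] K where
  toFun v := v.1 j
  map_add' _ _ := rfl
  map_smul' _ _ := rfl

theorem co_apply (j : ZMod d) (v : W F K d) : co j v = v.1 j := rfl

/-- the shifts -/
def shE (s : ZMod d) : W F K d ≃ₗ[F] W F K d where
  toFun v := ⟨fun j => v.1 (j + s), fun j => by
    change FiniteField.frobeniusAlgHom F K (v.1 (j + s)) = v.1 (j + 2 + s)
    rw [W_frob]; congr 1; ring⟩
  invFun v := ⟨fun j => v.1 (j - s), fun j => by
    change FiniteField.frobeniusAlgHom F K (v.1 (j - s)) = v.1 (j + 2 - s)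
    rw [W_frob]; congr 1; ring⟩
  map_add' _ _ := rfl
  map_smul' _ _ := rfl
  left_inv v := Subtype.ext (funext fun j => by
    change v.1 (j - s + s) = v.1 j
    rw [sub_add_cancel])
  right_inv v := Subtype.ext (funext fun j => by
    change v.1 (j + s - s) = v.1 j
    rw [add_sub_cancel_right])

theorem shE_apply (s : ZMod d) (v : W F K d) (j : ZMod d) : (shE s v).1 j = v.1 (j + s) := rfl

variable (q) in
/-- the elements of the torus -/
def IsTor (m : ZMod d → Kˣ) : Prop := ∀ j, m (j + 1) = (m j ^ q)⁻¹

theorem IsTor.one : IsTor q (1 : ZMod d → Kˣ) := fun j => by simp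

theorem IsTor.inv {m : ZMod d → Kˣ} (hm : IsTor q m) : IsTor q m⁻¹ := fun j => by
  rw [Pi.inv_apply, Pi.inv_apply, hm j, inv_pow]

theorem IsTor.mul {m m' : ZMod d → Kˣ} (hm : IsTor q m) (hm' : IsTor q m') : IsTor q (m * m') := fun j => by
  rw [Pi.mul_apply, Pi.mul_apply, hm j, hm' j, mul_pow, mul_inv]

theorem IsTor.pow {m : ZMod d → Kˣ} (hm : IsTor q m) (k : ℕ) : IsTor q (m ^ k) := fun j => by
  rw [Pi.pow_apply, Pi.pow_apply, hm j, inv_pow, ← pow_mul, ← pow_mul, mul_comm]

theorem IsTor.two (hF : Fintype.card F = q ^ 2) {m : ZMod d → Kˣ} (hm : IsTor q m) (j : ZMod d) :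
    FiniteField.frobeniusAlgHom F K (m j : K) = (m (j + 2) : K) := by
  rw [FiniteField.frobeniusAlgHom_apply, hF, ← one_add_one_eq_two (R := ZMod d), ← add_assoc, hm, hm, inv_pow, inv_inv,
    ← pow_mul, ← sq, Units.val_pow_eq_pow_val]

/-- the action of the torus -/
def torE (hF : Fintype.card F = q ^ 2) (m : ZMod d → Kˣ) (hm : IsTor q m) : W F K d ≃ₗ[F] W F K d where
  toFun v := ⟨fun j => (m j : K) * v.1 j, fun j => by
    change FiniteField.frobeniusAlgHom F K ((m j : K) * v.1 j) = (m (j + 2) : K) * v.1 (j + 2)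
    rw [map_mul, W_frob, hm.two hF]⟩
  invFun v := ⟨fun j => ((m j)⁻¹ : Kˣ) * v.1 j, fun j => by
    change FiniteField.frobeniusAlgHom F K (((m⁻¹) j : Kˣ) * v.1 j) = (((m⁻¹) (j + 2) : Kˣ) : K) * v.1 (j + 2)
    rw [map_mul, W_frob, hm.inv.two hF]⟩
  map_add' v w := Subtype.ext (funext fun j => mul_add _ _ _)
  map_smul' c v := Subtype.ext (funext fun j => by
    change (m j : K) * (c • v.1 j) = c • ((m j : K) * v.1 j)
    rw [mul_smul_comm])
  left_inv v := Subtype.ext (funext fun j => by
    change (((m j)⁻¹ : Kˣ) : K) * ((m j : K) * v.1 j) = v.1 j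
    rw [← mul_assoc, Units.inv_mul, one_mul])
  right_inv v := Subtype.ext (funext fun j => by
    change (m j : K) * ((((m j)⁻¹ : Kˣ) : K) * v.1 j) = v.1 j
    rw [← mul_assoc, Units.mul_inv, one_mul])

theorem torE_apply (hF : Fintype.card F = q ^ 2) (m : ZMod d → Kˣ) (hm : IsTor q m) (v : W F K d) (j : ZMod d) :
    (torE hF m hm v).1 j = (m j : K) * v.1 j := rfl

theorem torE_pow (hF : Fintype.card F = q ^ 2) (m : ZMod d → Kˣ) (hm : IsTor q m) (k : ℕ) :
    torE (F := F) hF m hm ^ k = torE hF (m ^ k) (hm.pow k) := by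
  induction k with
  | zero =>
    refine LinearEquiv.ext fun v => Subtype.ext (funext fun j => ?_)
    rw [torE_apply, pow_zero, pow_zero, Pi.one_apply, Units.val_one, one_mul]
    rfl
  | succ k ih =>
    refine LinearEquiv.ext fun v => Subtype.ext (funext fun j => ?_)
    rw [pow_succ, ih, LinearEquiv.mul_apply, torE_apply, torE_apply, torE_apply, Pi.pow_apply, Pi.pow_apply, pow_succ,
      Units.val_mul, mul_assoc]

theorem torE_eq_one (hF : Fintype.card F = q ^ 2) (m : ZMod d → Kˣ) (hm : IsTor q m) :
    torE (F := F) hF m hm = 1 ↔ m = 1 := by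
  constructor
  · intro h
    funext j
    have h1 := congrArg (fun f : W F K d ≃ₗ[F] W F K d => (f one').1 j) h
    have h2 : (m j : K) * 1 = 1 := h1
    rw [mul_one] at h2
    exact Units.ext h2
  · intro h
    refine LinearEquiv.ext fun v => Subtype.ext (funext fun j => ?_)
    rw [torE_apply, h, Pi.one_apply, Units.val_one, one_mul]
    rfl

/-- the shifts permute the torus -/
theorem shE_torE (hF : Fintype.card F = q ^ 2) (s : ZMod d) (m m' : ZMod d → Kˣ) (hm : IsTor q m) (hm' : IsTor q m')
    (h : ∀ j, m (j + s) = m' j) : shE (F := F) s * torE hF m hm = torE hF m' hm' * shE s := by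
  refine LinearEquiv.ext fun v => Subtype.ext (funext fun j => ?_)
  rw [LinearEquiv.mul_apply, LinearEquiv.mul_apply, shE_apply, torE_apply, torE_apply, shE_apply, h]

/-- the torus is abelian -/
theorem torE_comm (hF : Fintype.card F = q ^ 2) (m m' : ZMod d → Kˣ) (hm : IsTor q m) (hm' : IsTor q m') :
    torE (F := F) hF m hm * torE hF m' hm' = torE hF m' hm' * torE hF m hm := by
  refine LinearEquiv.ext fun v => Subtype.ext (funext fun j => ?_)
  rw [LinearEquiv.mul_apply, LinearEquiv.mul_apply, torE_apply, torE_apply, torE_apply, torE_apply, mul_left_comm]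

variable [NeZero d]

/-- the form with values in `K` -/
def fK (hF : Fintype.card F = q ^ 2) (v w : W F K d) : K := ∑ j, kap hF K (v.1 j) * w.1 (j + 1)

theorem fK_symm (hF : Fintype.card F = q ^ 2) (v w : W F K d) : kap hF K (fK hF v w) = fK hF w v := by
  unfold fK
  rw [map_sum, ← Equiv.sum_comp (Equiv.addRight (1 : ZMod d)) (fun j => kap hF K (w.1 j) * v.1 (j + 1))]
  refine Finset.sum_congr rfl fun j _ => ?_
  rw [map_mul, kap_kap, W_frob, mul_comm]
  change kap hF K (w.1 (j + 1)) * v.1 (j + 2) = kap hF K (w.1 (j + 1)) * v.1 (j + 1 + 1)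
  rw [add_assoc, one_add_one_eq_two]

theorem fK_frob (hF : Fintype.card F = q ^ 2) (v w : W F K d) :
    FiniteField.frobeniusAlgHom F K (fK hF v w) = fK hF v w := by
  rw [← kap_kap hF, fK_symm, fK_symm]

/-- the form on `W` -/
noncomputable def fW (hF : Fintype.card F = q ^ 2) (K : Type) [Field K] [Algebra F K] (d : ℕ) [NeZero d] :
    W F K d →ₛₗ[(conj hF).toRingHom] W F K d →ₗ[F] F :=
  LinearMap.mk₂'ₛₗ _ _ (fun v w => pr F K (fK hF v w))
    (fun v v' w => by
      rw [← map_add]; congr 1; unfold fK
      rw [← Finset.sum_add_distrib]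
      refine Finset.sum_congr rfl fun j _ => ?_
      rw [← add_mul, ← map_add]; rfl)
    (fun c v w => by
      rw [← map_smul]; congr 1; unfold fK
      rw [Finset.smul_sum]
      refine Finset.sum_congr rfl fun j _ => ?_
      change kap hF K (c • v.1 j) * _ = _
      rw [Algebra.smul_def, map_mul, kap_algebraMap, Algebra.smul_def, mul_assoc]
      rfl)
    (fun v w w' => by
      rw [← map_add]; congr 1; unfold fK
      rw [← Finset.sum_add_distrib]
      refine Finset.sum_congr rfl fun j _ => ?_
      rw [← mul_add]; rfl)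
    (fun c v w => by
      rw [← map_smul]; congr 1; unfold fK
      rw [Finset.smul_sum]
      refine Finset.sum_congr rfl fun j _ => ?_
      change _ * (c • w.1 (j + 1)) = _
      rw [mul_smul_comm]
      rfl)

theorem fW_apply (hF : Fintype.card F = q ^ 2) (v w : W F K d) : fW hF K d v w = pr F K (fK hF v w) := rfl

theorem algebraMap_fW (hF : Fintype.card F = q ^ 2) (v w : W F K d) : algebraMap F K (fW hF K d v w) = fK hF v w := by
  obtain ⟨c, hc⟩ := exists_of_frob (fK_frob hF v w)
  rw [fW_apply, ← hc, pr_algebraMap]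

theorem fW_symm (hF : Fintype.card F = q ^ 2) : (fW hF K d).IsSymm := ⟨fun v w => by
  apply (algebraMap F K).injective
  change algebraMap F K (conj hF (fW hF K d v w)) = _
  rw [← kap_algebraMap, algebraMap_fW, fK_symm, algebraMap_fW]⟩

theorem fW_shE (hF : Fintype.card F = q ^ 2) (s : ZMod d) (v w : W F K d) :
    fW hF K d (shE s v) (shE s w) = fW hF K d v w := by
  rw [fW_apply, fW_apply]
  congr 1
  unfold fK
  rw [← Equiv.sum_comp (Equiv.addRight s) (fun j => kap hF K (v.1 j) * w.1 (j + 1))]
  refine Finset.sum_congr rfl fun j _ => ?_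
  rw [shE_apply, shE_apply]
  change _ * w.1 (j + 1 + s) = kap hF K (v.1 (j + s)) * w.1 (j + s + 1)
  rw [add_right_comm]

theorem fW_torE (hF : Fintype.card F = q ^ 2) (m : ZMod d → Kˣ) (hm : IsTor q m) (v w : W F K d) :
    fW hF K d (torE hF m hm v) (torE hF m hm w) = fW hF K d v w := by
  rw [fW_apply, fW_apply]
  congr 1
  unfold fK
  refine Finset.sum_congr rfl fun j _ => ?_
  rw [torE_apply, torE_apply, hm j, map_mul, kap_apply, mul_mul_mul_comm, ← Units.val_pow_eq_pow_val, Units.mul_inv,
    one_mul]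

end Mod

section Dim

variable {K : Type} [Field K] [Algebra F K] {d : ℕ} [NeZero d]

/-- a regular element of the torus -/
structure Reg (F : Type) [Field F] [Fintype F] (q : ℕ) (l : ZMod d → Kˣ) : Prop where
  hF : Fintype.card F = q ^ 2
  tor : IsTor q l
  inj : Function.Injective l

variable {l : ZMod d → Kˣ}

theorem Reg.inj' (h : Reg F q l) : Function.Injective fun j => (l j : K) :=
  fun a b hab => h.inj (Units.ext hab)

/-- the dual action of the regular element on the functionals -/
def dualT (hF : Fintype.card F = q ^ 2) (l : ZMod d → Kˣ) (hl : IsTor q l) : Module.End K (W F K d →ₗ[F] K) where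
  toFun f := f.comp (torE hF l hl : W F K d →ₗ[F] W F K d)
  map_add' _ _ := rfl
  map_smul' _ _ := rfl

theorem dualT_apply (hF : Fintype.card F = q ^ 2) (hl : IsTor q l) (f : W F K d →ₗ[F] K) (v : W F K d) :
    dualT hF l hl f v = f (torE hF l hl v) := rfl

theorem co_ne_zero (j : ZMod d) : (co j : W F K d →ₗ[F] K) ≠ 0 := by
  intro h
  have h1 := LinearMap.congr_fun h one'
  rw [co_apply, one'_apply] at h1
  exact one_ne_zero h1

theorem eigen_co (hF : Fintype.card F = q ^ 2) (hl : IsTor q l) (j : ZMod d) :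
    (dualT (F := F) hF l hl).HasEigenvector (l j : K) (co j) := by
  refine ⟨Module.End.mem_eigenspace_iff.2 (LinearMap.ext fun v => ?_), co_ne_zero j⟩
  rw [dualT_apply, co_apply, torE_apply]
  rfl

/-- the coordinates are linearly independent -/
theorem Reg.indep (h : Reg F q l) : LinearIndependent K (fun j : ZMod d => (co j : W F K d →ₗ[F] K)) :=
  Module.End.eigenvectors_linearIndependent' (dualT h.hF l h.tor) (fun j => (l j : K)) h.inj' _ fun j =>
    eigen_co h.hF h.tor j

theorem Reg.indep' (h : Reg F q l) {c : ZMod d → K} (hc : ∀ v : W F K d, ∑ j, c j * v.1 j = 0) (j : ZMod d) : c j = 0 := by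
  refine Fintype.linearIndependent_iff.1 h.indep c (LinearMap.ext fun v => ?_) j
  rw [LinearMap.sum_apply]
  exact hc v

theorem Reg.nd (h : Reg F q l) : (fW h.hF K d).SeparatingLeft := by
  intro v hv
  apply Subtype.ext
  funext j
  have h1 : ∀ w : W F K d, ∑ j, kap h.hF K (v.1 (j - 1)) * w.1 j = 0 := by
    intro w
    rw [← Equiv.sum_comp (Equiv.addRight (1 : ZMod d))]
    have h2 := congrArg (algebraMap F K) (hv w)
    rw [algebraMap_fW, map_zero] at h2
    rw [← h2]
    unfold fK
    refine Finset.sum_congr rfl fun j _ => ?_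
    change kap h.hF K (v.1 (j + 1 - 1)) * w.1 (j + 1) = _
    rw [add_sub_cancel_right]
  have h2 := h.indep' h1 (j + 1)
  rw [add_sub_cancel_right, map_eq_zero] at h2
  exact h2

/-- evaluation of polynomials -/
noncomputable def Reg.ev (h : Reg F q l) : Polynomial.degreeLT F d →ₗ[F] W F K d where
  toFun f := ⟨fun j => Polynomial.aeval (l j : K) f.1, fun j => by
    rw [← Polynomial.aeval_algHom_apply, h.tor.two h.hF]⟩
  map_add' f g := Subtype.ext (funext fun j => map_add _ _ _)
  map_smul' c f := Subtype.ext (funext fun j => map_smul _ _ _)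

theorem Reg.ev_apply (h : Reg F q l) (f : Polynomial.degreeLT F d) (j : ZMod d) :
    (h.ev f).1 j = Polynomial.aeval (l j : K) f.1 := rfl

theorem Reg.ev_injective (h : Reg F q l) : Function.Injective h.ev := by
  rw [injective_iff_map_eq_zero]
  intro f hf
  apply Subtype.ext
  have h1 : Polynomial.map (algebraMap F K) f.1 = 0 := by
    refine Polynomial.eq_of_degrees_lt_of_eval_index_eq (v := fun j => (l j : K)) (Finset.univ : Finset (ZMod d))
      (h.inj'.injOn) ?_ ?_ fun j _ => ?_
    · rw [Finset.card_univ, ZMod.card]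
      exact lt_of_le_of_lt Polynomial.degree_map_le (Polynomial.mem_degreeLT.1 f.2)
    · rw [Polynomial.degree_zero]; exact WithBot.bot_lt_coe _
    · rw [Polynomial.eval_map_algebraMap, Polynomial.eval_zero, ← h.ev_apply, hf]
      rfl
  exact (Polynomial.map_eq_zero _).1 h1

theorem Reg.ev_surjective (h : Reg F q l) : Function.Surjective h.ev := by
  classical
  intro v
  set P := Lagrange.interpolate (Finset.univ : Finset (ZMod d)) (fun j => (l j : K)) v.1 with hP
  have hev : ∀ j, P.eval (l j : K) = v.1 j := fun j =>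
    Lagrange.eval_interpolate_at_node v.1 h.inj'.injOn (Finset.mem_univ j)
  have hdeg : P.degree < ((Finset.univ : Finset (ZMod d)).card : WithBot ℕ) :=
    Lagrange.degree_interpolate_lt v.1 h.inj'.injOn
  have hfix : P.map (FiniteField.frobeniusAlgHom F K : K →+* K) = P := by
    refine Polynomial.eq_of_degrees_lt_of_eval_index_eq (v := fun j => (l j : K)) (Finset.univ : Finset (ZMod d))
      (h.inj'.injOn) (lt_of_le_of_lt Polynomial.degree_map_le hdeg) hdeg fun j _ => ?_
    have h1 : (l j : K) = FiniteField.frobeniusAlgHom F K (l (j - 2) : K) := by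
      rw [h.tor.two h.hF, sub_add_cancel]
    rw [hev]
    nth_rewrite 1 [h1]
    change Polynomial.eval ((FiniteField.frobeniusAlgHom F K : K →+* K) (l (j - 2) : K)) _ = _
    rw [Polynomial.eval_map_apply, hev]
    change FiniteField.frobeniusAlgHom F K _ = _
    rw [W_frob, sub_add_cancel]
  obtain ⟨f, hf⟩ : ∃ f : Polynomial F, f.map (algebraMap F K) = P := by
    rw [← Polynomial.mem_lifts, Polynomial.lifts_iff_coeff_lifts]
    intro n
    refine exists_of_frob ?_
    have h1 := congrArg (fun p => Polynomial.coeff p n) hfix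
    rw [Polynomial.coeff_map] at h1
    exact h1
  refine ⟨⟨f, ?_⟩, Subtype.ext (funext fun j => ?_)⟩
  · rw [Polynomial.mem_degreeLT, ← Polynomial.degree_map f (algebraMap F K), hf]
    rwa [Finset.card_univ, ZMod.card] at hdeg
  · rw [h.ev_apply]
    change Polynomial.aeval (l j : K) f = _
    rw [← Polynomial.eval_map_algebraMap, hf, hev]

theorem Reg.equiv (h : Reg F q l) : Nonempty (W F K d ≃ₗ[F] (Fin d → F)) :=
  ⟨(LinearEquiv.ofBijective h.ev ⟨h.ev_injective, h.ev_surjective⟩).symm.trans (Polynomial.degreeLTEquiv F d)⟩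

theorem Reg.finite (h : Reg F q l) : Module.Finite F (W F K d) := by
  obtain ⟨e⟩ := h.equiv
  exact Module.Finite.equiv e.symm

theorem Reg.finrank (h : Reg F q l) : finrank F (W F K d) = d := by
  obtain ⟨e⟩ := h.equiv
  rw [e.finrank_eq, Module.finrank_fin_fun]

/-- the eigenfunctionals -/
theorem Reg.eigen (h : Reg F q l) {f : W F K d →ₗ[F] K} (hf : f ≠ 0) {c : K}
    (hc : ∀ v, f (torE h.hF l h.tor v) = c * f v) : ∃ j, c = l j := by
  classical
  by_contra hno
  push Not at hno
  have hfin := h.finite
  have h1 : LinearIndependent K (fun o : Option (ZMod d) => (o.elim f co : W F K d →ₗ[F] K)) := by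
    refine Module.End.eigenvectors_linearIndependent' (dualT h.hF l h.tor)
      (fun o : Option (ZMod d) => (o.elim c fun j => (l j : K))) ?_ _ ?_
    · rintro (_ | a) (_ | b) hab
      · rfl
      · exact absurd hab (hno b)
      · exact absurd hab.symm (hno a)
      · exact congrArg some (h.inj' hab)
    · rintro (_ | a)
      · exact ⟨Module.End.mem_eigenspace_iff.2 (LinearMap.ext fun v => hc v), hf⟩
      · exact eigen_co h.hF h.tor a
  have hfin2 : Module.Finite K (W F K d →ₗ[F] K) := inferInstance
  have h2 := h1.fintype_card_le_finrank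
  rw [Module.finrank_linearMap_self, h.finrank, Fintype.card_option, ZMod.card] at h2
  omega

end Dim

end Cfsg.Agent.H724.KB
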