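import Cfsg.Agent.H724.KB.UMod

/-!
# The torus of the unitary block (S4822, `kb_psu`, helper724)

* `torV` : the torus element attached to `μ` with `μ ^ ((-q) ^ d) = μ`;
* `exists_order` : orders of torus elements;
* `det_torE` : the determinant; `exists_det` : it is surjective on the elements of norm one.
-/

set_option autoImplicit false
set_option linter.unusedSectionVars false

open Module Cfsg.Agent.LieClassical.HermBasic

namespace Cfsg.Agent.H724.KB

variable {F : Type} [Field F] [Fintype F] {q : ℕ} {K : Type} [Field K] [Algebra F K] {d : ℕ} [NeZero d]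

section tor

theorem IsTor.propag {m m' : ZMod d → Kˣ} (hm : IsTor q m) (hm' : IsTor q m') {j k : ZMod d} (h : m j = m' k)
    (i : ZMod d) : m (j + i) = m' (k + i) := by
  have key : ∀ n : ℕ, m (j + (n : ZMod d)) = m' (k + (n : ZMod d)) := by
    intro n
    induction n with
    | zero => rw [Nat.cast_zero, add_zero, add_zero, h]
    | succ n ih => rw [Nat.cast_succ, ← add_assoc, ← add_assoc, hm, hm', ih]
  have h1 := key i.val
  rwa [ZMod.natCast_zmod_val] at h1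

variable (q d) in
/-- torus elements -/
def torV (μ : Kˣ) : ZMod d → Kˣ := fun j => μ ^ ((-(q : ℤ)) ^ j.val)

theorem torV_zero (μ : Kˣ) : torV q d μ 0 = μ := by
  unfold torV
  rw [ZMod.val_zero, pow_zero, zpow_one]

theorem torV_pow (μ : Kˣ) (k : ℕ) : torV q d μ ^ k = torV q d (μ ^ k) := by
  funext j
  rw [Pi.pow_apply]
  unfold torV
  rw [← zpow_natCast, ← zpow_natCast, ← zpow_mul, ← zpow_mul, mul_comm]

theorem zpow_mod {μ : Kˣ} (h : μ ^ ((-(q : ℤ)) ^ d) = μ) (k : ℕ) :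
    μ ^ ((-(q : ℤ)) ^ (k % d)) = μ ^ ((-(q : ℤ)) ^ k) := by
  have h1 : ∀ t : ℕ, μ ^ ((-(q : ℤ)) ^ (d * t)) = μ := by
    intro t
    induction t with
    | zero => rw [mul_zero, pow_zero, zpow_one]
    | succ t ih => rw [Nat.mul_succ, pow_add, zpow_mul, ih, h]
  conv_rhs => rw [← Nat.mod_add_div k d, add_comm, pow_add, zpow_mul, h1]

theorem isTor_torV {μ : Kˣ} (h : μ ^ ((-(q : ℤ)) ^ d) = μ) : IsTor q (torV q d μ) := by
  intro j
  unfold torV
  rw [ZMod.val_add, ZMod.val_one_eq_one_mod, Nat.add_mod_mod, zpow_mod h, pow_succ, zpow_mul, zpow_neg, zpow_natCast]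

end tor

section exist

variable [Fintype K]

theorem card_K (hF : Fintype.card F = q ^ 2) (hK : finrank F K = d) :
    ((Nat.card Kˣ : ℕ) : ℤ) = ((-(q : ℤ)) ^ d - 1) * ((-(q : ℤ)) ^ d + 1) := by
  have hd : d ≠ 0 := NeZero.ne d
  have : FiniteDimensional F K := FiniteDimensional.of_finrank_pos (by omega)
  have h1 : 1 ≤ Nat.card K := Nat.card_pos
  rw [Nat.card_units, Nat.cast_sub h1, Nat.cast_one, Module.natCard_eq_pow_finrank (K := F), hK, Nat.card_eq_fintype_card,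
    hF]
  have h2 : ((-(q : ℤ)) ^ d) * ((-(q : ℤ)) ^ d) = ((q : ℤ) ^ 2) ^ d := by
    rw [← mul_pow, neg_mul_neg, sq]
  push_cast
  linear_combination (-1 : ℤ) * h2

theorem exists_order (hF : Fintype.card F = q ^ 2) (hK : finrank F K = d) {N : ℕ} (hN : (N : ℤ) ∣ (-(q : ℤ)) ^ d - 1) :
    ∃ μ : Kˣ, orderOf μ = N ∧ μ ^ ((-(q : ℤ)) ^ d) = μ := by
  obtain ⟨g, hg⟩ := IsCyclic.exists_ofOrder_eq_natCard (α := Kˣ)
  have h1 : N ∣ Nat.card Kˣ := by
    rw [← Int.natCast_dvd_natCast, card_K hF hK]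
    exact Dvd.dvd.mul_right hN _
  obtain ⟨c, hc⟩ := h1
  have hpos : 0 < Nat.card Kˣ := Nat.card_pos
  have hc0 : c ≠ 0 := by rintro rfl; rw [mul_zero] at hc; omega
  have ho : orderOf (g ^ c) = N := by
    rw [orderOf_pow_of_dvd hc0 (by rw [hg, hc]; exact Dvd.intro_left N rfl), hg, hc, Nat.mul_div_cancel _ (Nat.pos_of_ne_zero hc0)]
  refine ⟨g ^ c, ho, ?_⟩
  have h2 : (g ^ c) ^ ((-(q : ℤ)) ^ d - 1) = 1 := by
    rw [← orderOf_dvd_iff_zpow_eq_one, ho]; exact hN
  rw [zpow_sub, zpow_one, mul_inv_eq_one] at h2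
  exact h2

/-- `d` is the order of `-q` modulo `p` -/
def OrdM (p q d : ℕ) : Prop := ∀ k : ℕ, (p : ℤ) ∣ (-(q : ℤ)) ^ k - 1 ↔ d ∣ k

theorem OrdM.not_dvd {p : ℕ} (hp : p.Prime) (h : OrdM p q d) : ¬ (p : ℤ) ∣ (q : ℤ) := by
  intro h1
  have h2 : (p : ℤ) ∣ (-(q : ℤ)) ^ d := Dvd.dvd.pow (Dvd.dvd.neg_right h1) (NeZero.ne d)
  have h3 := (h d).2 dvd_rfl
  have h4 : (p : ℤ) ∣ 1 := by
    have := dvd_sub h2 h3
    rwa [sub_sub_cancel] at this
  have h5 : (p : ℤ) ∣ ((1 : ℕ) : ℤ) := by exact_mod_cast h4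
  rw [Int.natCast_dvd_natCast] at h5
  exact hp.one_lt.ne' (Nat.dvd_one.1 h5)

/-- a regular element of order `p` -/
theorem exists_reg (hF : Fintype.card F = q ^ 2) (hK : finrank F K = d) {p : ℕ} (hp : p.Prime) (hd : OrdM p q d) :
    ∃ l : ZMod d → Kˣ, Reg F q l ∧ (∀ j, orderOf (l j) = p) := by
  obtain ⟨μ, ho, hμ⟩ := exists_order hF hK ((hd d).2 dvd_rfl)
  have hpq := hd.not_dvd hp
  have hpp : Prime (p : ℤ) := Nat.prime_iff_prime_int.1 hp
  have := Fact.mk hp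
  have key : ∀ a b : ℕ, a ≤ b → b < d → μ ^ ((-(q : ℤ)) ^ a) = μ ^ ((-(q : ℤ)) ^ b) → a = b := by
    intro a b hab hb he
    rw [← inv_mul_eq_one, ← zpow_neg, ← zpow_add, ← orderOf_dvd_iff_zpow_eq_one, ho] at he
    have h1 : -(-(q : ℤ)) ^ a + (-(q : ℤ)) ^ b = (-(q : ℤ)) ^ a * ((-(q : ℤ)) ^ (b - a) - 1) := by
      rw [mul_sub, ← pow_add, Nat.add_sub_cancel' hab]; ring
    rw [h1] at he
    rcases hpp.dvd_or_dvd he with h2 | h2
    · exact absurd ((dvd_neg.1 (hpp.dvd_of_dvd_pow h2))) hpq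
    · have h3 := (hd _).1 h2
      rcases Nat.eq_zero_or_pos (b - a) with h4 | h4
      · omega
      · have := Nat.le_of_dvd h4 h3
        omega
  refine ⟨torV q d μ, ⟨hF, isTor_torV hμ, fun j k hjk => ?_⟩, fun j => ?_⟩
  · rcases le_total j.val k.val with h1 | h1
    · exact ZMod.val_injective d (key _ _ h1 (ZMod.val_lt k) hjk)
    · exact (ZMod.val_injective d (key _ _ h1 (ZMod.val_lt j) hjk.symm)).symm
  · refine orderOf_eq_prime_iff.2 ⟨?_, fun h1 => ?_⟩
    · rw [← Pi.pow_apply, torV_pow, ← ho, pow_orderOf_eq_one]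
      unfold torV
      rw [one_zpow]
    · have h2 : (p : ℤ) ∣ (-(q : ℤ)) ^ j.val := by
        rw [← ho, orderOf_dvd_iff_zpow_eq_one]
        exact h1
      exact hpq (dvd_neg.1 (hpp.dvd_of_dvd_pow h2))

end exist

section det

theorem prod_val {M : Type} [CommMonoid M] (f : ℕ → M) : ∏ j : ZMod d, f j.val = ∏ i ∈ Finset.range d, f i := by
  rcases d with _ | n
  · exact absurd rfl (NeZero.ne 0)
  · exact Fin.prod_univ_eq_prod_range f (n + 1)

theorem prod_zpow' (μ : Kˣ) (f : ℕ → ℤ) (n : ℕ) : ∏ i ∈ Finset.range n, μ ^ f i = μ ^ (∑ i ∈ Finset.range n, f i) := by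
  induction n with
  | zero => rw [Finset.range_zero, Finset.prod_empty, Finset.sum_empty, zpow_zero]
  | succ n ih => rw [Finset.prod_range_succ, Finset.sum_range_succ, zpow_add, ih]

theorem prod_torV (μ : Kˣ) : ∏ j : ZMod d, torV q d μ j = μ ^ (∑ i ∈ Finset.range d, (-(q : ℤ)) ^ i) := by
  unfold torV
  rw [prod_val (fun i => μ ^ ((-(q : ℤ)) ^ i)), prod_zpow']

variable {l : ZMod d → Kˣ}

/-- the determinant of the torus elements -/
theorem det_torE (h : Reg F q l) (m : ZMod d → Kˣ) (hm : IsTor q m) :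
    algebraMap F K (LinearMap.det (torE h.hF m hm : W F K d →ₗ[F] W F K d)) = ∏ j, (m j : K) := by
  classical
  have hfin := h.finite
  let b : Basis (ZMod d) F (W F K d) := (Module.finBasisOfFinrankEq F (W F K d) h.finrank).reindex
    (Fintype.equivOfCardEq (by rw [ZMod.card, Fintype.card_fin]))
  let B : Matrix (ZMod d) (ZMod d) K := Matrix.of fun j i => (b i).1 j
  have hB : B.det ≠ 0 := by
    intro h0
    obtain ⟨v, hv0, hv⟩ := Matrix.exists_vecMul_eq_zero_iff.2 h0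
    apply hv0
    funext j
    refine h.indep' (c := v) (fun w => ?_) j
    have h1 : (∑ j, v j • (co j : W F K d →ₗ[F] K)) = 0 := by
      refine b.ext fun i => ?_
      rw [LinearMap.sum_apply]
      exact congrFun hv i
    have h2 := LinearMap.congr_fun h1 w
    rw [LinearMap.sum_apply] at h2
    exact h2
  have hG : B * (LinearMap.toMatrix b b (torE h.hF m hm : W F K d →ₗ[F] W F K d)).map (algebraMap F K) =
      Matrix.diagonal (fun j => (m j : K)) * B := by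
    ext j i
    rw [Matrix.diagonal_mul, Matrix.mul_apply]
    have h1 := congrArg (co j) (b.sum_repr (torE h.hF m hm (b i)))
    rw [map_sum] at h1
    have h2 : co j (torE h.hF m hm (b i)) = (m j : K) * B j i := rfl
    rw [← h2, ← h1]
    refine Finset.sum_congr rfl fun k _ => ?_
    rw [map_smul, Matrix.map_apply, LinearMap.toMatrix_apply, Algebra.smul_def, mul_comm]
    rfl
  have h1 := congrArg Matrix.det hG
  rw [Matrix.det_mul, Matrix.det_mul, Matrix.det_diagonal, mul_comm] at h1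
  have h2 := mul_right_cancel₀ hB h1
  rw [← h2, ← LinearMap.det_toMatrix b, RingHom.map_det]
  rfl

/-- the determinant is surjective on the torus -/
theorem exists_det [Fintype K] (h : Reg F q l) (hK : finrank F K = d) {δ : Fˣ} (hδ : δ ^ (q + 1) = 1) :
    ∃ (m : ZMod d → Kˣ) (hm : IsTor q m), LinearEquiv.det (torE h.hF m hm : W F K d ≃ₗ[F] W F K d) = δ := by
  obtain ⟨g, hg⟩ := IsCyclic.exists_zpow_surjective (G := Kˣ)
  obtain ⟨t, ht⟩ := hg (Units.map (algebraMap F K : F →* K) δ)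
  replace ht : g ^ t = Units.map (algebraMap F K : F →* K) δ := ht
  have hgo : ((orderOf g : ℕ) : ℤ) = ((-(q : ℤ)) ^ d - 1) * ((-(q : ℤ)) ^ d + 1) := by
    rw [← card_K h.hF hK, orderOf_eq_card_of_forall_mem_zpowers fun x => by
      obtain ⟨k, hk⟩ := hg x
      exact ⟨k, hk⟩]
  set S : ℤ := ∑ i ∈ Finset.range d, (-(q : ℤ)) ^ i with hS
  have hS1 : S * (-(q : ℤ) - 1) = (-(q : ℤ)) ^ d - 1 := geom_sum_mul _ _
  have h1 : g ^ (t * ((q : ℤ) + 1)) = 1 := by
    rw [zpow_mul, ht]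
    have h2 : ((q : ℤ) + 1) = ((q + 1 : ℕ) : ℤ) := by push_cast; ring
    rw [h2, zpow_natCast, ← map_pow, hδ, map_one]
  rw [← orderOf_dvd_iff_zpow_eq_one, hgo, ← hS1] at h1
  obtain ⟨c, hc⟩ := h1
  have hq : ((q : ℤ) + 1) ≠ 0 := by positivity
  have hc2 : t = S * (((-(q : ℤ)) ^ d + 1) * (-c)) := by
    apply mul_right_cancel₀ hq
    rw [hc]
    ring
  have hμ : (g ^ (((-(q : ℤ)) ^ d + 1) * (-c))) ^ ((-(q : ℤ)) ^ d) = g ^ (((-(q : ℤ)) ^ d + 1) * (-c)) := by
    rw [← mul_inv_eq_one, ← zpow_mul, ← zpow_neg, ← zpow_add, ← orderOf_dvd_iff_zpow_eq_one, hgo]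
    refine ⟨-c, ?_⟩
    ring
  refine ⟨torV q d (g ^ (((-(q : ℤ)) ^ d + 1) * (-c))), isTor_torV hμ, ?_⟩
  apply Units.ext
  apply (algebraMap F K).injective
  rw [LinearEquiv.coe_det, det_torE h, ← Units.coe_prod, prod_torV, ← zpow_mul, mul_comm (((-(q : ℤ)) ^ d + 1) * (-c)), ← hc2,
    ht]
  rfl

end det

end Cfsg.Agent.H724.KB
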